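import Cfsg.Agent.Lib.GW.Component.Alpha.ShapeSize

/-!
Where the reflections of a Sylow 2-subgroup sit relative to the socle of `K/O(K)`: conjugates of
the central involution put the whole subgroup into the socle, and an outer reflection is centralised
by a nontrivial element of odd order inverted by the central involution.
-/

set_option autoImplicit false
set_option linter.unusedSectionVars false
set_option linter.style.haveILetI false
set_option maxHeartbeats 1000000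

namespace CfsgLib.GW.Alpha

open Subgroup CfsgLib.Invol CfsgLib.BlockA.DihedralBlock
open scoped MatrixGroups

universe u

variable {G : Type u} [Group G] [Finite G]

local notation "π[" K "]" => QuotientGroup.mk' (Cfsg.oddCore ↥K)

/-- An involution of `K` whose image is conjugate to that of `a` is conjugate to `a` in `K`. -/
theorem conj_of_image {K : Subgroup G} {a j : G} (ha : orderOf a = 2) (hj : orderOf j = 2)
    (haK : a ∈ K) (hjK : j ∈ K)
    (hq : ∃ g, g * π[K] ⟨a, haK⟩ * g⁻¹ = π[K] ⟨j, hjK⟩) : ∃ k ∈ K, k * a * k⁻¹ = j := by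
  obtain ⟨g, hg⟩ := hq
  obtain ⟨k, rfl⟩ := QuotientGroup.mk'_surjective (Cfsg.oddCore ↥K) g
  set x := (k : G) * a * (k : G)⁻¹
  have ho : j⁻¹ * x ∈ coreK K := by
    refine mem_coreK (x := ⟨j, hjK⟩⁻¹ * (k * ⟨a, haK⟩ * k⁻¹)) |>.2 ?_
    rw [map_mul, map_mul, map_mul, map_inv, map_inv, hg, inv_mul_cancel]
  have hx2 : x * x = 1 := invol_mul_self (by rw [orderOf_conj_eq, ha])
  obtain ⟨d, hd, hdj⟩ := exists_conj_coset (odd_coreK K) (invol_mul_self hj) ho
    (by rw [mul_inv_cancel_left]; exact hx2)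
  rw [mul_inv_cancel_left] at hdj
  refine ⟨d⁻¹ * k, mul_mem (inv_mem (coreK_le K hd)) k.2, ?_⟩
  calc d⁻¹ * k * a * (d⁻¹ * k)⁻¹ = d⁻¹ * x * d := by simp only [x]; group
    _ = j := by rw [← hdj]; group

/-- The data of `K/O(K)` seen from a central involution `a`, unless it is `A₇`. -/
theorem linear_data (M : Min G) {K : Subgroup G} (hK : K ≠ ⊤) {a b : G} (ha : orderOf a = 2)
    (haK : a ∈ K) (hbK : b ∈ K) (hns : ¬ Group.IsSolvable K)
    (hcore : coreK K ≤ cI a) (S : Sylow 2 G) (D : DihData (S : Subgroup G))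
    (hSK : (S : Subgroup G) ≤ K) (hz : dz S D = a) {V : Subgroup G} (hV : V ≤ K ⊓ coreC a)
    (hd : V ⊓ coreK K = ⊥) (hinvV : ∀ v ∈ V, b * v * b⁻¹ = v⁻¹) :
    (Nonempty ((↥K ⧸ Cfsg.oddCore ↥K) ≃* alternatingGroup (Fin 7)) ∧ Nat.card V ∣ 3 ∧ D.h ≤ 2 ∧
        (K ⊓ cI a).relIndex K = 105) ∨
    ∃ (L : Subgroup (↥K ⧸ Cfsg.oddCore ↥K)) (F : Type) (_ : Field F) (_ : Fintype F)
      (P : Subgroup (↥K ⧸ Cfsg.oddCore ↥K)) (χ : P →* PGL(2, F)) (c rL : ℕ),
      L.Normal ∧ Odd (Fintype.card F) ∧ 4 ≤ Fintype.card F ∧ Function.Injective χ ∧ L ≤ P ∧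
      (∀ x : P, (x : ↥K ⧸ Cfsg.oddCore ↥K) ∈ L → χ x ∈ CfsgLib.Geom.Moebius.imL F) ∧
      (∀ y ∈ CfsgLib.Geom.Moebius.imL F, ∃ x : P, (x : ↥K ⧸ Cfsg.oddCore ↥K) ∈ L ∧ χ x = y) ∧
      (∀ x : ↥K ⧸ Cfsg.oddCore ↥K, orderOf x = 2 → x ∈ P) ∧
      π[K] ⟨a, haK⟩ ∈ L ∧
      (∀ x ∈ L, orderOf x = 2 → ∃ g, g * π[K] ⟨a, haK⟩ * g⁻¹ = x) ∧
      c = Nat.card (L ⊓ centralizer ({π[K] ⟨a, haK⟩} : Set _) : Subgroup _) ∧
      (c = Fintype.card F - 1 ∨ c = Fintype.card F + 1) ∧
      Nat.card V ∣ c ∧ 4 ∣ c ∧ rL ∣ (K ⊓ cI a).relIndex K ∧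
      (2 * rL = Fintype.card F * (Fintype.card F - 1) ∨
        2 * rL = Fintype.card F * (Fintype.card F + 1)) := by
  classical
  haveI : Fact (Nat.Prime 2) := ⟨Nat.prime_two⟩
  set π := π[K] with hπ
  set A := π ⟨a, haK⟩ with hAdef
  have hA : orderOf A = 2 := orderOf_mk'_invol (by rw [orderOf_mk, ha])
  set V' := (V.subgroupOf K).map π with hV'
  have hcV : Nat.card V' = Nat.card V := card_map_of_disjoint (hV.trans inf_le_left) hd
  have hoddV : Odd (Nat.card V) := (odd_coreC a).of_dvd_nat (card_dvd_of_le (hV.trans inf_le_right))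
  have hVA : ∀ v ∈ V', Commute v A := by
    rintro _ ⟨v, hv, rfl⟩
    exact commute_map (show Commute (v : G) a from mem_cI.1 (coreC_le_cI a (hV hv).2))
  let φ : (S : Subgroup G) →* (↥K ⧸ Cfsg.oddCore ↥K) := π.comp (inclusion hSK)
  have hφinj : Function.Injective φ := (injective_iff_map_eq_one φ).2 fun s hs => by
    have h1 : (s : G) ∈ coreK K := mem_coreK (x := inclusion hSK s) |>.2 hs
    obtain ⟨k, hk⟩ := S.2 s
    refine orderOf_eq_one_iff.1 (Nat.eq_one_of_dvd_coprimes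
      (Nat.coprime_two_right.2 (odd_coreK K) |>.pow_right k)
      (by rw [← Subgroup.orderOf_coe]; exact Subgroup.orderOf_dvd_natCard _ h1)
      (orderOf_dvd_of_pow_eq_one hk))
  set CA := centralizer ({A} : Set (↥K ⧸ Cfsg.oddCore ↥K)) with hCA
  have hidx : (K ⊓ cI a).relIndex K = CA.index := by
    rw [← index_comap_of_surjective (H := CA) (QuotientGroup.mk'_surjective (Cfsg.oddCore ↥K))]
    refine congrArg Subgroup.index ?_
    ext k
    constructor
    · intro hk'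
      exact mem_centralizer_singleton_iff.2
        (commute_map (y := ⟨a, haK⟩) (mem_cI.1 (mem_subgroupOf.1 hk').2 : Commute (k : G) a)).eq
    · intro hk'
      refine mem_subgroupOf.2 ⟨k.2, ?_⟩
      have he : π (⟨a, haK⟩⁻¹ * (k * ⟨a, haK⟩ * k⁻¹)) = 1 := by
        have h := mem_centralizer_singleton_iff.1 (mem_comap.1 hk')
        rw [map_mul, map_mul, map_mul, map_inv, map_inv, show π k * A * (π k)⁻¹ = A by
          rw [show π k * A = A * π k from h, mul_inv_cancel_right], inv_mul_cancel]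
      have ho := mem_coreK.2 he
      set o := a⁻¹ * ((k : G) * a * (k : G)⁻¹) with ho'
      have hco : Commute o a := mem_cI.1 (hcore ho)
      have hoo : o * o = 1 := by
        have hao : a * o = (k : G) * a * (k : G)⁻¹ := mul_inv_cancel_left a _
        have h2 := invol_mul_self (x := a * o) (by rw [hao, orderOf_conj_eq, ha])
        rw [mul_assoc a o (a * o), ← mul_assoc o a o, hco.eq, mul_assoc a o o, ← mul_assoc a a,
          invol_mul_self ha, one_mul] at h2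
        exact h2
      have ho1 : o = 1 := eq_one_of_sq_of_odd hoo (odd_of_mem (odd_coreK K) ho)
      rw [ho', inv_mul_eq_one] at ho1
      exact mem_cI.2 (eq_mul_inv_iff_mul_eq.1 ho1).symm
  rcases M.shape_cases hK hns with ⟨⟨e⟩⟩ | ⟨T0, E0, L, hLn, F, iF, iFt, hodd, hq, hC, ⟨e⟩⟩
  · left
    have hle : V'.map e.toMonoidHom ≤ centralizer ({e A} : Set (alternatingGroup (Fin 7))) := by
      rintro _ ⟨v, hv, rfl⟩
      exact mem_centralizer_singleton_iff.2 ((hVA v hv).map e.toMonoidHom).eq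
    have h24 : Nat.card (centralizer ({e A} : Set (alternatingGroup (Fin 7)))) = 24 :=
      card_centralizer_alt_seven (by rw [MulEquiv.orderOf_eq, hA])
    have h1 : Nat.card V ∣ 24 := by
      rw [← hcV, ← card_map_of_injective (K := V') (f := e.toMonoidHom) e.injective, ← h24]
      exact card_dvd_of_le hle
    refine ⟨⟨e⟩, ((Nat.coprime_two_right.2 hoddV).pow_right 3).dvd_of_dvd_mul_left
      (show _ ∣ 2 ^ 3 * 3 from h1), ?_, ?_⟩
    · have hS : 4 * D.h ∣ 2520 := by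
        rw [← D.card_eq, ← CfsgLib.Recog.GW.card_alt_seven]
        exact Subgroup.card_dvd_of_injective (e.toMonoidHom.comp φ) (e.injective.comp hφinj)
      obtain ⟨k, hk⟩ := D.h_pow
      rcases k with _ | _ | k
      · simp at hk; omega
      · simp at hk; omega
      · exfalso
        have h16 : 16 ∣ 2520 := dvd_trans ⟨2 ^ k, by rw [hk, pow_succ, pow_succ]; ring⟩ hS
        norm_num at h16
    · rw [hidx]
      have hC7 : Nat.card CA = 24 := by
        rw [← h24]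
        refine Nat.card_congr (e.toEquiv.subtypeEquiv fun x => ?_)
        show x ∈ CA ↔ e x ∈ centralizer ({e A} : Set (alternatingGroup (Fin 7)))
        rw [hCA, mem_centralizer_singleton_iff, mem_centralizer_singleton_iff, ← map_mul, ← map_mul,
          e.injective.eq_iff]
      have h := CA.index_mul_card
      rw [hC7, Nat.card_congr e.toEquiv, CfsgLib.Recog.GW.card_alt_seven] at h
      omega
  right
  have := CfsgLib.Geom.Moebius.finite_pgl_two (F := F)
  haveI := CfsgLib.ClassK.isSimpleGroup_psl_two (F := F) hq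
  haveI : IsSimpleGroup L := e.isSimpleGroup
  have h4 : 4 ≤ Fintype.card F := hq
  obtain ⟨P, χ, hχ, hLP, hLχ, hχL, hinv, hconjinv⟩ := exists_linear hodd T0 E0 L e hC
  have hLns : ¬ Group.IsSolvable L := by
    intro hs
    haveI := hs
    have hab : ∀ x y : L, x * y = y * x := IsSimpleGroup.comm_iff_isSolvable.2 hs
    have hall : ∀ x ∈ CfsgLib.Geom.Moebius.imL F, ∀ y ∈ CfsgLib.Geom.Moebius.imL F, x * y = y * x := by
      intro x hx y hy
      obtain ⟨x', hx', rfl⟩ := hχL x hx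
      obtain ⟨y', hy', rfl⟩ := hχL y hy
      rw [← map_mul, ← map_mul]
      exact congrArg χ (Subtype.ext (congrArg Subtype.val (hab ⟨x', hx'⟩ ⟨y', hy'⟩) :))
    haveI : IsSimpleGroup (Matrix.ProjectiveSpecialLinearGroup (Fin 2) F) :=
      CfsgLib.ClassK.isSimpleGroup_psl_two (F := F) hq
    obtain ⟨t, ht⟩ := exists_prime_orderOf_dvd_card' (G := CfsgLib.Geom.Moebius.imL F) 2 (by
      have h := CfsgLib.Geom.Moebius.card_imL_two (F := F)
      rw [CfsgLib.Geom.Moebius.gcd_two_of_odd hodd] at h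
      obtain ⟨m, hm⟩ := hodd
      rw [hm, show 2 * m + 1 - 1 = 2 * m by omega, show 2 * m + 1 + 1 = 2 * (m + 1) by ring] at h
      exact ⟨(m + 1) * ((2 * m + 1) * m), by nlinarith⟩)
    have ht' : orderOf (t : PGL(2, F)) = 2 := by rw [Subgroup.orderOf_coe, ht]
    have hc : (centralizer ({(t : PGL(2, F))} : Set PGL(2, F)) ⊓ CfsgLib.Geom.Moebius.imL F) =
        CfsgLib.Geom.Moebius.imL F := inf_eq_right.2 fun x hx =>
      mem_centralizer_singleton_iff.2 (hall x hx t t.2)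
    have h := CfsgLib.Geom.Moebius.card_imL_two (F := F)
    rw [CfsgLib.Geom.Moebius.gcd_two_of_odd hodd, ← hc] at h
    obtain ⟨n, hn⟩ : ∃ n, Fintype.card F = n + 4 := ⟨Fintype.card F - 4, by omega⟩
    rcases PGL.card_centralizer_imL hodd h4 ht' with h' | h' <;>
      rw [h', hn, show n + 4 - 1 = n + 3 by omega] at h <;>
        nlinarith [Nat.zero_le (n * n * n), Nat.zero_le (n * n)]
  let S₁ : Sylow 2 K := S.subtype hSK
  let T : Sylow 2 (↥K ⧸ Cfsg.oddCore ↥K) := S₁.mapSurjective (QuotientGroup.mk'_surjective _)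
  have hφr : φ.range = (T : Subgroup (↥K ⧸ Cfsg.oddCore ↥K)) := by
    rw [show (T : Subgroup (↥K ⧸ Cfsg.oddCore ↥K)) = (S₁ : Subgroup K).map π from rfl,
      MonoidHom.range_comp, inclusion_range]
    rfl
  let iso : (S : Subgroup G) ≃* (T : Subgroup (↥K ⧸ Cfsg.oddCore ↥K)) :=
    (MonoidHom.ofInjective hφinj).trans (MulEquiv.subgroupCongr hφr)
  let E := CfsgLib.Recog.GenDihedral.mapData iso D
  have hiso : ∀ s : (S : Subgroup G),
      ((iso s : (T : Subgroup (↥K ⧸ Cfsg.oddCore ↥K))) : ↥K ⧸ Cfsg.oddCore ↥K) = φ s := fun s => rfl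
  have hEz : dz T E = A := by
    simp only [dz, DihData.z, E, CfsgLib.Recog.GenDihedral.mapData, ← map_zpow, hiso]
    exact congrArg π (Subtype.ext hz)
  obtain ⟨PL, DL, j, -, hdz, -, hdt, -⟩ :=
    CfsgLib.Recog.GenDihedral.exists_subData T E L hLns
  have hAL : A ∈ L := by rw [← hEz, ← hdz]; exact SetLike.coe_mem _
  have hAP := hinv _ hA
  set A' := χ ⟨A, hAP⟩ with hA'
  have hA'2 : orderOf A' = 2 := by rw [hA', orderOf_injective χ hχ, orderOf_mk, hA]
  set CL := L ⊓ CA with hCL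
  have hCLcard : Nat.card CL = Nat.card
      (centralizer ({A'} : Set PGL(2, F)) ⊓ CfsgLib.Geom.Moebius.imL F : Subgroup PGL(2, F)) := by
    have hm : (CL.subgroupOf P).map χ =
        centralizer ({A'} : Set PGL(2, F)) ⊓ CfsgLib.Geom.Moebius.imL F := by
      ext y
      constructor
      · rintro ⟨q, hq, rfl⟩
        obtain ⟨hq1, hq2⟩ := mem_inf.1 (mem_subgroupOf.1 hq)
        exact mem_inf.2 ⟨mem_centralizer_singleton_iff.2 ((show Commute q ⟨A, hAP⟩ from
          Subtype.ext (mem_centralizer_singleton_iff.1 hq2)).map χ).eq, hLχ q hq1⟩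
      · rintro ⟨hy1, hy2⟩
        obtain ⟨q, hq, rfl⟩ := hχL y hy2
        refine ⟨q, mem_subgroupOf.2 (mem_inf.2 ⟨hq, mem_centralizer_singleton_iff.2 ?_⟩), rfl⟩
        have h := mem_centralizer_singleton_iff.1 hy1
        rw [hA', ← map_mul, ← map_mul] at h
        exact congrArg Subtype.val (hχ h)
    rw [← hm, card_map_of_injective hχ,
      Nat.card_congr (subgroupOfEquivOfLe (inf_le_left.trans hLP : CL ≤ P)).toEquiv]
  have hVCL : V' ≤ CL := by
    intro v hv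
    obtain ⟨w, hw, rfl⟩ := id hv
    refine mem_inf.2 ⟨?_, mem_centralizer_singleton_iff.2 (hVA _ hv).eq⟩
    have ho : Odd (orderOf (π w)) :=
      (hcV ▸ hoddV).of_dvd_nat (Subgroup.orderOf_dvd_natCard V' hv)
    have hwP : π w ∈ P := hconjinv _ (π ⟨b, hbK⟩) ho (by
      rw [← map_inv, ← map_mul, ← map_mul, ← map_inv]
      exact congrArg π (Subtype.ext (hinvV _ hw)))
    obtain ⟨q, hq, he⟩ := hχL _ (odd_mem_imL hodd (x := χ ⟨π w, hwP⟩)
      (by rw [orderOf_injective χ hχ, orderOf_mk]; exact ho))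
    exact ((congrArg Subtype.val (hχ he)).trans rfl : (q : ↥K ⧸ Cfsg.oddCore ↥K) = π w) ▸ hq
  refine ⟨L, F, iF, iFt, P, χ, Nat.card CL, CA.relIndex L, hLn, hodd, h4, hχ, hLP, hLχ, hχL, hinv, hAL,
    fun x hx hx2 => ?_, rfl, ?_, hcV ▸ card_dvd_of_le hVCL, ?_, ?_, ?_⟩
  · obtain ⟨c, hc⟩ := isConj_iff.1 (CfsgLib.Fusion.psl_two_involutions_conj hodd
      (e ⟨A, hAL⟩) (e ⟨x, hx⟩)
      (by rw [MulEquiv.orderOf_eq, orderOf_mk, hA]) (by rw [MulEquiv.orderOf_eq, orderOf_mk, hx2]))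
    obtain ⟨c', rfl⟩ := e.surjective c
    rw [← map_inv, ← map_mul, ← map_mul] at hc
    exact ⟨c', congrArg Subtype.val (e.injective hc)⟩
  · rw [hCLcard]; exact PGL.card_centralizer_imL hodd h4 hA'2
  · have hle : dU T E j ≤ CL := by
      rintro _ ⟨w, hw, rfl⟩
      have hz' : dz T E ∈ L := by rw [hEz]; exact hAL
      have ht' : dt T E j ∈ L := hdt ▸ SetLike.coe_mem _
      refine mem_inf.2 ⟨?_, mem_centralizer_singleton_iff.2
        (hEz ▸ (dz_commute T E w.2).symm.eq)⟩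
      rcases hw with rfl | rfl | rfl | rfl
      · exact one_mem L
      · exact hz'
      · exact ht'
      · exact mul_mem hz' ht'
    rw [← (dU_isKleinFour T E j).card_four]
    exact card_dvd_of_le hle
  · rw [hidx]
    have h : CA.relIndex L * L.index = L.relIndex CA * CA.index := by
      rw [← inf_relIndex_right CA L, relIndex_mul_index inf_le_right, inf_comm CA L,
        ← relIndex_mul_index (inf_le_right : L ⊓ CA ≤ CA), inf_relIndex_right]
    obtain ⟨m, hm⟩ := relIndex_dvd_index_of_normal L CA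
    refine ⟨m, Nat.eq_of_mul_eq_mul_left (show 0 < L.relIndex CA from
      Nat.pos_of_ne_zero index_ne_zero_of_finite) ?_⟩
    rw [← h, hm]
    ring
  · have hL : CA.relIndex L * Nat.card CL = Nat.card L := by
      have h := relIndex_mul_card' (A := CL) (B := L) inf_le_left
      rwa [hCL, inf_comm, inf_relIndex_right, inf_comm] at h
    have h := CfsgLib.Geom.Moebius.card_imL_two (F := F)
    rw [CfsgLib.Geom.Moebius.gcd_two_of_odd hodd,
      ← Nat.card_congr (MonoidHom.ofInjective Matrix.ProjectiveSpecialLinearGroup.toPGL_injective).toEquiv,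
      ← Nat.card_congr e.toEquiv, ← hL, hCLcard] at h
    obtain ⟨c, hc⟩ : ∃ c, Fintype.card F = c + 1 := ⟨Fintype.card F - 1, by omega⟩
    rw [hc, show c + 1 - 1 = c by omega] at h ⊢
    rcases PGL.card_centralizer_imL hodd h4 hA'2 with h' | h' <;> rw [h', hc] at h
    · refine Or.inr ?_
      rw [show c + 1 - 1 = c by omega] at h
      exact Nat.eq_of_mul_eq_mul_right (show 0 < c by omega) (by linarith)
    · exact Or.inl (Nat.eq_of_mul_eq_mul_right (show 0 < c + 1 + 1 by omega) (by linarith))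

/-- **Reflections conjugate to the central involution put the Sylow subgroup into the socle.** -/
theorem exists_socle_size (M : Min G) {K : Subgroup G} (hK : K ≠ ⊤) {a b : G} (ha : orderOf a = 2)
    (haK : a ∈ K) (hbK : b ∈ K) (hns : ¬ Group.IsSolvable K)
    (hcore : coreK K ≤ cI a) (S : Sylow 2 G) (D : DihData (S : Subgroup G))
    (hSK : (S : Subgroup G) ≤ K) (hz : dz S D = a) {i : ℤ} (hi : ∃ k ∈ K, k * a * k⁻¹ = dt S D i)
    (hs : ∃ k ∈ K, k * a * k⁻¹ = dt S D (i + 1)) {V : Subgroup G} (hV : V ≤ K ⊓ coreC a)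
    (hd : V ⊓ coreK K = ⊥) (hinvV : ∀ v ∈ V, b * v * b⁻¹ = v⁻¹) :
    (Nat.card V ∣ 3 ∧ D.h ≤ 2 ∧ (K ⊓ cI a).relIndex K = 105) ∨
    ∃ q cl rL : ℕ, 0 < cl ∧ 4 * D.h * Nat.card V ∣ cl ∧ cl ≤ q + 1 ∧
      (2 * rL = q * (q - 1) ∨ 2 * rL = q * (q + 1)) ∧ rL ∣ (K ⊓ cI a).relIndex K := by
  classical
  haveI : Fact (Nat.Prime 2) := ⟨Nat.prime_two⟩
  rcases linear_data M hK ha haK hbK hns hcore S D hSK hz hV hd hinvV with
    ⟨-, h1, h2, h3⟩ | ⟨L, F, iF, iFt, P, χ, c, rL, hLn, hodd, h4, hχ, -, -, -, -, hAL, -, hc,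
      hcq, hVc, -, hrL, hrL2⟩
  · exact Or.inl ⟨h1, h2, h3⟩
  right
  haveI := hLn
  set π := π[K] with hπ
  have hin : ∀ t (ht : t ∈ (S : Subgroup G)), (∃ k ∈ K, k * a * k⁻¹ = t) → π ⟨t, hSK ht⟩ ∈ L := by
    rintro t ht ⟨k, hk, rfl⟩
    rw [show (⟨k * a * k⁻¹, hSK ht⟩ : K) = ⟨k, hk⟩ * ⟨a, haK⟩ * ⟨k, hk⟩⁻¹ from rfl, map_mul,
      map_mul, map_inv]
    exact hLn.conj_mem _ hAL _
  let φ : (S : Subgroup G) →* (↥K ⧸ Cfsg.oddCore ↥K) := π.comp (inclusion hSK)
  have hφinj : Function.Injective φ := (injective_iff_map_eq_one φ).2 fun s hs => by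
    have h1 : (s : G) ∈ coreK K := mem_coreK (x := inclusion hSK s) |>.2 hs
    obtain ⟨k, hk⟩ := S.2 s
    refine orderOf_eq_one_iff.1 (Nat.eq_one_of_dvd_coprimes
      (Nat.coprime_two_right.2 (odd_coreK K) |>.pow_right k)
      (by rw [← Subgroup.orderOf_coe]; exact Subgroup.orderOf_dvd_natCard _ h1)
      (orderOf_dvd_of_pow_eq_one hk))
  have hgen : φ.range ≤ L := by
    have ht0 : φ (D.r ^ i * D.s) ∈ L := hin _ (SetLike.coe_mem _) hi
    have ht1 : φ (D.r ^ (i + 1) * D.s) ∈ L := hin _ (SetLike.coe_mem _) hs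
    have hr : φ D.r ∈ L := by
      have h := mul_mem ht1 ht0
      rwa [← map_mul, D.zy_mul_zy, add_sub_cancel_left, zpow_one] at h
    have hsL : φ D.s ∈ L := by
      have h := mul_mem (Subgroup.zpow_mem L hr (-i)) ht0
      rwa [← map_zpow, ← map_mul, ← mul_assoc, ← zpow_add, neg_add_cancel, zpow_zero, one_mul] at h
    rintro _ ⟨u, rfl⟩
    rcases D.cases u with ⟨e, rfl⟩ | ⟨e, rfl⟩
    · rw [map_zpow]; exact Subgroup.zpow_mem L hr e
    · rw [map_mul, map_zpow]; exact mul_mem (Subgroup.zpow_mem L hr e) hsL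
  have hle : φ.range ≤ L ⊓ centralizer ({π ⟨a, haK⟩} : Set _) := le_inf hgen (by
    rintro _ ⟨u, rfl⟩
    exact mem_centralizer_singleton_iff.2 (commute_map
      (show Commute (u : G) a from hz ▸ (dz_commute S D u.2).symm)).eq)
  have h4h : 4 * D.h ∣ c := by
    rw [← D.card_eq, Nat.card_congr (MonoidHom.ofInjective hφinj).toEquiv, hc]
    exact card_dvd_of_le hle
  have hcop : Nat.Coprime (4 * D.h) (Nat.card V) := by
    obtain ⟨k, hk⟩ := D.h_pow
    rw [hk, show 4 * 2 ^ k = 2 ^ (k + 2) by ring]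
    exact (Nat.coprime_two_left.2
      ((odd_coreC a).of_dvd_nat (card_dvd_of_le (hV.trans inf_le_right)))).pow_left _
  refine ⟨Fintype.card F, c, rL, ?_, hcop.mul_dvd_of_dvd_of_dvd h4h hVc, ?_, hrL2, hrL⟩
  · rw [hc]; exact Nat.card_pos
  · rcases hcq with h | h <;> omega

/-- **An outer reflection has a nontrivial odd centralizer inverted by the central involution.** -/
theorem exists_outer_element (M : Min G) {K : Subgroup G} (hK : K ≠ ⊤) {a b : G}
    (ha : orderOf a = 2) (haK : a ∈ K) (hbK : b ∈ K) (hns : ¬ Group.IsSolvable K)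
    (hcore : coreK K ≤ cI a) (S : Sylow 2 G) (D : DihData (S : Subgroup G))
    (hSK : (S : Subgroup G) ≤ K) (hz : dz S D = a) {s : G} (hs : orderOf s = 2) (hsK : s ∈ K)
    (hsa : Commute s a) (hne : s ≠ a) (hnc : ¬ ∀ x ∈ coreK K, Commute s x)
    {V : Subgroup G} (hV : V ≤ K ⊓ coreC a) (hd : V ⊓ coreK K = ⊥)
    (hinvV : ∀ v ∈ V, b * v * b⁻¹ = v⁻¹) :
    ∃ y : G, Odd (orderOf y) ∧ Commute y s ∧ a * y * a⁻¹ = y⁻¹ ∧ y ^ Nat.card V ≠ 1 := by
  classical
  have hnconj : ¬ ∃ k ∈ K, k * a * k⁻¹ = s := fun ⟨k, hk, e⟩ =>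
    hnc fun x hx => e ▸ conj_commute_coreK hcore hk hx
  set π := π[K] with hπ
  set A := π ⟨a, haK⟩ with hAdef
  set J := π ⟨s, hsK⟩ with hJdef
  have hA : orderOf A = 2 := orderOf_mk'_invol (by rw [orderOf_mk, ha])
  have hJ : orderOf J = 2 := orderOf_mk'_invol (by rw [orderOf_mk, hs])
  have hJA : J ≠ A := mk'_ne_of_commute (by rw [orderOf_mk, hs]) (by rw [orderOf_mk, ha])
    (Subtype.ext hsa.eq) (fun h => hne (congrArg Subtype.val h))
  rcases linear_data M hK ha haK hbK hns hcore S D hSK hz hV hd hinvV with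
    ⟨⟨e⟩, -, -, -⟩ | ⟨L, F, iF, iFt, P, χ, c, rL, hLn, hodd, h4, hχ, hLP, hLχ, hχL, hinv, hAL,
      hconjA, -, hcq, hVc, h4c, -, -⟩
  · exfalso
    obtain ⟨g, hg⟩ := isConj_iff.1 (CfsgLib.StructB.CoA9.seven_invol_conj (a := e A) (b := e J)
      (by rw [MulEquiv.orderOf_eq, hA]) (by rw [MulEquiv.orderOf_eq, hJ]))
    exact hnconj (conj_of_image ha hs haK hsK ⟨e.symm g, e.injective (by
      rw [map_mul, map_mul, map_inv, MulEquiv.apply_symm_apply]; exact hg)⟩)
  have := CfsgLib.Geom.Moebius.finite_pgl_two (F := F)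
  have hJL : J ∉ L := fun h => hnconj (conj_of_image ha hs haK hsK (hconjA J h hJ))
  have hAP := hinv _ hA
  have hJP := hinv _ hJ
  set A' := χ ⟨A, hAP⟩ with hA'
  set J' := χ ⟨J, hJP⟩ with hJ'
  have hA'2 : orderOf A' = 2 := by rw [hA', orderOf_injective χ hχ, orderOf_mk, hA]
  have hJ'2 : orderOf J' = 2 := by rw [hJ', orderOf_injective χ hχ, orderOf_mk, hJ]
  have hJ'L : J' ∉ CfsgLib.Geom.Moebius.imL F := fun h => hJL (by
    obtain ⟨q, hq, he⟩ := hχL _ h
    exact ((congrArg Subtype.val (hχ he)).trans rfl : (q : ↥K ⧸ Cfsg.oddCore ↥K) = J) ▸ hq)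
  obtain ⟨TJ, hTJ, hJT, hcard, -, -, -⟩ :=
    PGL.exists_torus hodd hJ'2 (Commute.refl J') (PGL.ne_one_of_two hJ'2)
  haveI := hTJ
  obtain ⟨g, hg⟩ := IsCyclic.exists_generator (α := TJ)
  have hord : orderOf g = Nat.card TJ := orderOf_eq_card_of_forall_mem_zpowers hg
  obtain ⟨m, hm⟩ : 2 ∣ Nat.card TJ := by
    have h := Subgroup.orderOf_dvd_natCard TJ hJT
    rwa [hJ'2] at h
  have hm2 : 2 ≤ m := by rcases hcard with h | h <;> omega
  have hmo : Odd m := by
    by_contra hme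
    obtain ⟨l, hl⟩ := Nat.not_odd_iff_even.1 hme
    have hsq : J' = ((g ^ l : TJ) : PGL(2, F)) * ((g ^ l : TJ) : PGL(2, F)) := by
      have h2 : orderOf (g ^ (l + l)) = 2 := by
        rw [orderOf_pow_of_dvd (by omega) (by rw [hord, hm, hl]; exact dvd_mul_left _ _), hord, hm,
          hl, Nat.mul_div_cancel _ (by omega)]
      rw [← Subgroup.coe_mul, ← pow_add]
      exact PGL.invol_unique hTJ hJT (g ^ (l + l)).2 hJ'2 (by rw [Subgroup.orderOf_coe, h2])
    exact hJ'L (hsq ▸ mul_self_mem_of_index_two (CfsgLib.Geom.Moebius.imL_index hodd) _)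
  set x : PGL(2, F) := ((g ^ 2 : TJ) : PGL(2, F)) with hx
  have hxo : orderOf x = m := by
    rw [hx, Subgroup.orderOf_coe, orderOf_pow_of_dvd two_ne_zero (by rw [hord, hm]; exact dvd_mul_right _ _),
      hord, hm, Nat.mul_div_cancel_left _ two_pos]
  have hxJ : Commute x J' := PGL.commute_of_cyclic hTJ (g ^ 2).2 hJT
  have hxA : A' * x * A'⁻¹ = x⁻¹ := by
    refine PGL.inverts_of_commute hodd hJ'2 hA'2 ?_ ?_ hxJ (hxo ▸ hmo)
    · exact fun h => hJA (congrArg Subtype.val (hχ h)).symm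
    · exact (show Commute (⟨A, hAP⟩ : P) ⟨J, hJP⟩ from Subtype.ext (commute_map hsa.symm).eq).map χ
  obtain ⟨q, hqL, hq⟩ := hχL x (by
    rw [hx, pow_two, Subgroup.coe_mul]
    exact mul_self_mem_of_index_two (CfsgLib.Geom.Moebius.imL_index hodd) _)
  -- the preimage in `K` of the group generated by `x`
  set X := (zpowers (q : ↥K ⧸ Cfsg.oddCore ↥K)).comap π
  have hqo : orderOf (q : ↥K ⧸ Cfsg.oddCore ↥K) = m := by
    rw [Subgroup.orderOf_coe, ← orderOf_injective χ hχ q, hq, hxo]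
  have hXodd : Odd (Nat.card X) := by
    have h := Nat.card_congr (QuotientGroup.preimageMkEquivSubgroupProdSet (Cfsg.oddCore ↥K)
      (zpowers (q : ↥K ⧸ Cfsg.oddCore ↥K) : Set _))
    rw [Nat.card_prod] at h
    refine (h.symm ▸ ?_ : Odd (Nat.card X))
    refine (Nat.coprime_two_right.1 (CfsgLib.Solvable.pPrimeCore_coprime 2)).mul ?_
    show Odd (Nat.card (zpowers (q : ↥K ⧸ Cfsg.oddCore ↥K)))
    rw [Nat.card_zpowers, hqo]; exact hmo
  have hqJ : Commute J (q : ↥K ⧸ Cfsg.oddCore ↥K) := by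
    have h : Commute (⟨J, hJP⟩ : P) q := hχ (by rw [map_mul, map_mul, hq]; exact hxJ.eq.symm)
    exact congrArg Subtype.val h.eq
  have hqA : A * (q : ↥K ⧸ Cfsg.oddCore ↥K) * A⁻¹ = (q : ↥K ⧸ Cfsg.oddCore ↥K)⁻¹ := by
    have h : (⟨A, hAP⟩ : P) * q * (⟨A, hAP⟩ : P)⁻¹ = q⁻¹ := hχ (by
      rw [map_mul, map_mul, map_inv, map_inv, hq]; exact hxA)
    exact congrArg Subtype.val h
  have hJX : ∀ w ∈ X, (⟨s, hsK⟩ : K) * w * (⟨s, hsK⟩ : K)⁻¹ ∈ X := fun w hw => by
    obtain ⟨i, hi⟩ := mem_comap.1 hw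
    simp only at hi
    refine mem_comap.2 ⟨i, ?_⟩
    simp only [map_mul, map_inv]
    rw [← hi, show π ⟨s, hsK⟩ = J from rfl, (hqJ.zpow_right i).eq, mul_inv_cancel_right]
  have hAX : ∀ w ∈ X, (⟨a, haK⟩ : K) * w * (⟨a, haK⟩ : K)⁻¹ ∈ X := fun w hw => by
    obtain ⟨i, hi⟩ := mem_comap.1 hw
    simp only at hi
    refine mem_comap.2 ⟨-i, ?_⟩
    simp only [map_mul, map_inv]
    rw [← hi, show π ⟨a, haK⟩ = A from rfl, ← conj_zpow, hqA, inv_zpow, zpow_neg]
  obtain ⟨y₀, hy₀⟩ := QuotientGroup.mk'_surjective (Cfsg.oddCore ↥K) (q : ↥K ⧸ Cfsg.oddCore ↥K)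
  have hy₀X : y₀ ∈ X := mem_comap.2 (by rw [show π y₀ = _ from hy₀]; exact mem_zpowers _)
  have hfix : ∀ w ∈ X, ∀ (t : K) (T : ↥K ⧸ Cfsg.oddCore ↥K), π t = T →
      Commute T (π w) → t * w * t⁻¹ = w⁻¹ → π w = 1 := fun w hw t T hT hc hi => by
    refine eq_one_of_fixed_inverted (t := T) (odd_map π (odd_of_mem hXodd hw)) hc ?_
    rw [← hT, ← map_inv, ← map_mul, ← map_mul, hi, map_inv]
  have hss : (⟨s, hsK⟩ : K) * ⟨s, hsK⟩ = 1 := Subtype.ext (invol_mul_self hs)
  obtain ⟨w, v, hw, hv, he, hws, hvs⟩ := exists_fixed_mul_inv hXodd hss hJX hy₀X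
  have hπw : π w = q := by
    have hπv : π v = 1 := by
      refine hfix v hv _ J rfl ?_ hvs
      obtain ⟨i, hi⟩ := mem_comap.1 hv
      simp only at hi
      exact hi ▸ hqJ.zpow_right i
    rw [← hy₀, show π y₀ = π w * π v by rw [he, map_mul], hπv, mul_one]
  -- split by `a` inside the centralizer of `s`
  set Y := X ⊓ centralizer ({(⟨s, hsK⟩ : K)} : Set K)
  obtain ⟨w1, v1, hw1, hv1, he1, hw1a, hv1a⟩ := exists_fixed_mul_inv (O := Y)
    (hXodd.of_dvd_nat (card_dvd_of_le inf_le_left)) (t := (⟨a, haK⟩ : K))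
    (Subtype.ext (invol_mul_self ha)) (fun w hw => mem_inf.2 ⟨hAX w hw.1,
      mem_centralizer_singleton_iff.2 (by
        have h1 : Commute (⟨s, hsK⟩ : K) ⟨a, haK⟩ := Subtype.ext hsa.eq
        exact ((h1.symm.mul_left (mem_centralizer_singleton_iff.1 hw.2)).mul_left
          h1.symm.inv_left).eq)⟩)
    (mem_inf.2 ⟨hw, mem_centralizer_singleton_iff.2 hws.eq.symm⟩ : w ∈ Y)
  have hπv1 : π v1 = q := by
    have hπw1 : π w1 = 1 := by
      refine eq_one_of_fixed_inverted (t := A) (odd_map π (odd_of_mem hXodd hw1.1))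
        (hw1a.map π) ?_
      obtain ⟨i, hi⟩ := mem_comap.1 hw1.1
      simp only at hi
      rw [← hi, ← conj_zpow, hqA, inv_zpow]
    rw [← hπw, show π w = π w1 * π v1 by rw [he1, map_mul], hπw1, one_mul]
  refine ⟨v1, by rw [Subgroup.orderOf_coe]; exact odd_of_mem hXodd hv1.1,
    congrArg Subtype.val (mem_centralizer_singleton_iff.1 hv1.2), congrArg Subtype.val hv1a,
    fun h1 => ?_⟩
  have h2 : (q : ↥K ⧸ Cfsg.oddCore ↥K) ^ Nat.card V = 1 := by
    rw [← hπv1, ← map_pow, show v1 ^ Nat.card V = 1 from Subtype.ext h1, map_one]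
  have h3 : m ∣ Nat.card V := hqo ▸ orderOf_dvd_of_pow_eq_one h2
  have hmc : m ∣ c := h3.trans hVc
  obtain ⟨d, hd4⟩ := h4c
  have hne' : c ≠ 2 * m := fun e => by
    obtain ⟨l, hl⟩ := hmo
    omega
  have hgcd : m ∣ 2 := by
    have h5 : m ∣ Nat.card TJ := ⟨2, by rw [hm]; ring⟩
    rcases hcard with e | e <;> rcases hcq with f | f
    · exact absurd (by omega : c = 2 * m) hne'
    · have h := Nat.dvd_sub hmc h5
      rwa [f, e, show Fintype.card F + 1 - (Fintype.card F - 1) = 2 by omega] at h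
    · have h := Nat.dvd_sub h5 hmc
      rwa [f, e, show Fintype.card F + 1 - (Fintype.card F - 1) = 2 by omega] at h
    · exact absurd (by omega : c = 2 * m) hne'
  have := Nat.le_of_dvd two_pos hgcd
  obtain ⟨l, hl⟩ := hmo
  omega

end CfsgLib.GW.Alpha
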