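import Cfsg.Agent.Lib.GW.Component.Small.Count
import Cfsg.Agent.Lib.GW.Component.Small.Socle
import Cfsg.Agent.Lib.GW.Component.Alpha.Arith
import Cfsg.Agent.Lib.GW.Component.Alpha.Twisted

/-!
**The small kill**: no plane through the central elements of order `p` with a point fixed by `b` is
normalised by `C(a)`.
-/

set_option autoImplicit false
set_option linter.unusedSectionVars false
set_option linter.style.haveILetI false
set_option maxHeartbeats 1000000

namespace CfsgLib.GW.Small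

open Subgroup CfsgLib.Invol CfsgLib.BlockA.DihedralBlock CfsgLib.Recog.GenDihedral
open CfsgLib.GW.Alpha

universe u

theorem size_false {κ m r : ℕ} (hκ : 3 ≤ κ) (hm : κ ≤ m)
    (hr : (4 * m - 1) * (4 * m - 2) ≤ 2 * r) (hup : (κ - 1) * r * r ≤ 15 * κ ^ 3 * m ^ 2) :
    False := by
  obtain ⟨k, rfl⟩ : ∃ k, κ = k + 3 := ⟨κ - 3, by omega⟩
  obtain ⟨t, rfl⟩ : ∃ t, m = t + 3 := ⟨m - 3, by omega⟩
  have hkt : k ≤ t := by omega
  rw [show 4 * (t + 3) - 1 = 4 * t + 11 by omega, show 4 * (t + 3) - 2 = 4 * t + 10 by omega] at hr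
  rw [show k + 3 - 1 = k + 2 by omega] at hup
  have h6 : 6 * ((t + 3) * (t + 3)) ≤ r := by nlinarith
  have h7 : (k + 2) * (36 * (t + 3) ^ 2) ≤ 15 * (k + 3) ^ 3 := by
    refine Nat.le_of_mul_le_mul_right (c := (t + 3) ^ 2) ?_ (by positivity)
    calc (k + 2) * (36 * (t + 3) ^ 2) * (t + 3) ^ 2
        = (k + 2) * ((6 * ((t + 3) * (t + 3))) * (6 * ((t + 3) * (t + 3)))) := by ring
      _ ≤ (k + 2) * (r * r) := Nat.mul_le_mul_left _ (Nat.mul_le_mul h6 h6)
      _ = (k + 2) * r * r := (mul_assoc _ _ _).symm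
      _ ≤ _ := hup
  have h9 : (k + 3) ^ 2 ≤ (t + 3) ^ 2 := Nat.pow_le_pow_left (by omega) 2
  nlinarith [Nat.mul_le_mul_left ((k + 2) * 36) h9]

variable {G : Type u} [Group G] [Finite G]

namespace Sm

variable {a b g z x₀ : G} {p : ℕ} (h : Sm a b g z x₀ p)
include h

/-- The configuration for a reflection centralising the line. -/
theorem pair {s : G} (hs : orderOf s = 2) (hsc : s ∈ cI a) (hne : s ≠ a) (hsx : Commute s x₀) :
    ∃ g', Sm a s g' z x₀ p := by
  obtain ⟨g', hg'⟩ := h.min.four_of_invol h.ha hs hsc hne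
  refine ⟨g', h.ctx, ⟨hg', h.mixed.hp, fun e => h.x_ne ?_, fun hle => h.z_ne ?_⟩, h.zord, h.zgen,
    h.hx, mem_cI.2 hsx.eq.symm, h.hxz, h.hA⟩
  · exact mem_bot.1 (e ▸ mem_inf.2 ⟨h.x_mem_fitP, mem_cI.2 hsx.eq.symm⟩)
  · exact eq_one_of_fixed_inverted (odd_orderOf_mem_coreC (zP_le_coreC a p h.z_mem))
      (mem_cI.1 (hle (zP_le_fitP a p h.z_mem)) : Commute z s).symm
      (h.mixed.inverts h.ctx hs hsc hne h.z_mem)

/-- The upper bound, four-group Sylow subgroups. -/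
theorem klein_bound {S : Sylow 2 G} (D : DihData (S : Subgroup G)) {i : ℤ} (hz : dz S D = a)
    (hi : dt S D i = b) (hSc : (S : Subgroup G) ≤ cI a) (hh : D.h = 1) :
    (cI a).index ≤ 15 * (kapX a x₀ * Nat.card h.tK) ^ 2 := by
  set κ := kapX a x₀
  set T := Nat.card h.tK
  set W := Nat.card (coreC a ⊓ cI b : Subgroup G)
  set O := Nat.card (coreC a)
  set iH := (cI a).index
  obtain ⟨f, -, hf, hG⟩ := klein_order_bounds S (isKleinFour_of_h_one S D hh) (SetLike.coe_mem D.z)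
    (invol_ne_one ((Subgroup.orderOf_coe _).trans D.orderOf_z))
    (fun _ _ hx hy => h.min.one_class hx hy)
  have hS : Nat.card (centralizer ((S : Subgroup G) : Set G)) = 4 * W := by
    have htop : ∀ u : (S : Subgroup G), u ∈ D.klein i := by
      intro u
      have : D.klein i = ⊤ := eq_top_of_card_eq _ (by
        rw [(D.klein_isKleinFour i).card_four, D.card_eq, hh])
      exact this ▸ mem_top u
    rw [show centralizer ((S : Subgroup G) : Set G) = centralizer ({dz S D, dt S D i} : Set G) from ?_,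
      card_centralizer_four h.min h.ha D hz hSc i, hi]
    refine le_antisymm (centralizer_le (Set.insert_subset (SetLike.coe_mem _)
      (Set.singleton_subset_iff.2 (SetLike.coe_mem _)))) fun x hx =>
        mem_centralizer_iff.2 fun u hu => ?_
    have h1 := mem_centralizer_iff.1 hx _ (Set.mem_insert _ _)
    have h2 := mem_centralizer_iff.1 hx _ (Set.mem_insert_of_mem _ rfl)
    rcases htop ⟨u, hu⟩ with e | e | e | e <;> have e' : u = _ := congrArg Subtype.val e <;> rw [e']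
    · simp
    · exact h1
    · exact h2
    · exact ((show Commute (dz S D) x from h1).mul_left (show Commute (dt S D i) x from h2)).eq
  have hH : Nat.card (cI a) = O * 4 := by rw [h.card_cI hSc, D.card_eq, hh]
  have hGH : Nat.card G = iH * (O * 4) := by rw [← hH, index_mul_card]
  have hO : O = κ * (T * W) := h.kap_mul.symm
  rw [hS, show centralizer ({((D.z : (S : Subgroup G)) : G)} : Set G) = cI a by rw [← hz], hH, hGH,
    hO] at hG
  push_cast at hG
  have hWpos : (0 : ℚ) < W := Nat.cast_pos.2 Nat.card_pos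
  have hκpos : (0 : ℚ) < κ := Nat.cast_pos.2 (by have := h.three_le_kap; omega)
  have hTpos : (0 : ℚ) < T := Nat.cast_pos.2 Nat.card_pos
  have he : (iH : ℚ) = 8 * f * (κ * T) ^ 2 := by
    field_simp at hG
    have hpos : (0 : ℚ) < 4 * κ * T * W := by positivity
    nlinarith
  have : (iH : ℚ) ≤ (15 * (κ * T) ^ 2 : ℕ) := by
    push_cast
    rw [he]
    nlinarith [sq_nonneg ((κ : ℚ) * T)]
  exact_mod_cast this

/-- The upper bound, dihedral Sylow subgroups of order at least eight. -/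
theorem dihedral_bound {S : Sylow 2 G} (D : DihData (S : Subgroup G)) {i : ℤ} (hz : dz S D = a)
    (hi : dt S D i = b) (hSc : (S : Subgroup G) ≤ cI a) (hh : 2 ≤ D.h) {J : ℕ}
    (hJ : Nat.card (coreC a) = J * Nat.card (coreC a ⊓ cI (dt S D (i + 1)) : Subgroup G)) :
    4 * (cI a).index ≤ 15 * D.h ^ 2 * (kapX a x₀ * Nat.card h.tK + J) ^ 2 := by
  obtain ⟨f, -, hf, hord⟩ :=
    dihedral_order_bounds S D hh (fun _ _ hx hy => h.min.one_class hx hy)
  set κ := kapX a x₀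
  set T := Nat.card h.tK
  set W := Nat.card (coreC a ⊓ cI b : Subgroup G)
  set Ws := Nat.card (coreC a ⊓ cI (dt S D (i + 1)) : Subgroup G)
  set O := Nat.card (coreC a)
  set iH := (cI a).index
  have hsum : (1 / (Nat.card (centralizer ({dz S D, dt S D 0} : Set G)) : ℚ) +
      1 / (Nat.card (centralizer ({dz S D, dt S D 1} : Set G)) : ℚ)) =
      1 / (4 * W : ℕ) + 1 / (4 * Ws : ℕ) := by
    rw [card_centralizer_four h.min h.ha D hz hSc, card_centralizer_four h.min h.ha D hz hSc]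
    rcases Int.even_or_odd' i with ⟨e, rfl | rfl⟩
    · rw [show W = Nat.card (coreC a ⊓ cI (dt S D 0) : Subgroup G) by
          rw [← card_coreC_inf_dt D hSc 0 e, zero_add, hi],
        show Ws = Nat.card (coreC a ⊓ cI (dt S D 1) : Subgroup G) by
          rw [← card_coreC_inf_dt D hSc 1 e, add_comm (1 : ℤ)]]
    · rw [show W = Nat.card (coreC a ⊓ cI (dt S D 1) : Subgroup G) by
          rw [← card_coreC_inf_dt D hSc 1 e, add_comm (1 : ℤ), hi],
        show Ws = Nat.card (coreC a ⊓ cI (dt S D 0) : Subgroup G) by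
          rw [← card_coreC_inf_dt D hSc 0 (e + 1),
            show (0 : ℤ) + 2 * (e + 1) = 2 * e + 1 + 1 by ring],
        add_comm]
  have hH : Nat.card (cI a) = O * (4 * D.h) := by rw [h.card_cI hSc, D.card_eq]
  have hGH : Nat.card G = iH * (O * (4 * D.h)) := by rw [← hH, index_mul_card]
  rw [hsum, show centralizer ({dz S D} : Set G) = cI a by rw [hz], hH, hGH] at hord
  push_cast at hord
  have hW : (0 : ℚ) < W := Nat.cast_pos.2 Nat.card_pos
  have hWs : (0 : ℚ) < Ws := Nat.cast_pos.2 Nat.card_pos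
  have hO : (0 : ℚ) < O := Nat.cast_pos.2 Nat.card_pos
  have hhq : (0 : ℚ) < D.h := Nat.cast_pos.2 D.h_pos
  have e1 : (1 : ℚ) / (4 * W) = κ * T / (4 * O) := by
    rw [show (O : ℚ) = κ * (T * W) by exact_mod_cast h.kap_mul.symm]
    have h1 : (0 : ℚ) < κ := Nat.cast_pos.2 (by have := h.three_le_kap; omega)
    have h2 : (0 : ℚ) < T := Nat.cast_pos.2 Nat.card_pos
    field_simp
  have e2 : (1 : ℚ) / (4 * Ws) = J / (4 * O) := by
    rw [show (O : ℚ) = J * Ws by exact_mod_cast hJ]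
    have h1 : (0 : ℚ) < J := by
      refine Nat.cast_pos.2 (Nat.pos_of_ne_zero fun e => ?_)
      rw [e, zero_mul] at hJ
      exact (Nat.card_pos (α := coreC a)).ne' hJ
    field_simp
  rw [e1, e2, ← add_div] at hord
  have key : (iH : ℚ) = 2 * f * (D.h : ℚ) ^ 2 * ((κ : ℚ) * T + J) ^ 2 := by
    field_simp at hord
    have hpos : (0 : ℚ) < O * D.h := mul_pos hO hhq
    refine mul_left_cancel₀ hpos.ne' ?_
    nlinarith
  have : ((4 * iH : ℕ) : ℚ) ≤ (15 * D.h ^ 2 * (κ * T + J) ^ 2 : ℕ) := by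
    push_cast
    rw [key]
    nlinarith [sq_nonneg ((D.h : ℚ) * ((κ : ℚ) * T + J))]
  exact_mod_cast this

/-- The case of a second reflection centralising the line. -/
theorem false_of_fixed {S : Sylow 2 G} (D : DihData (S : Subgroup G)) {i : ℤ} (hz : dz S D = a)
    (hi : dt S D i = b) (hSc : (S : Subgroup G) ≤ cI a) (hSK : (S : Subgroup G) ≤ nX x₀)
    (hsx : Commute (dt S D (i + 1)) x₀) : False := by
  set s := dt S D (i + 1) with hs
  have hs2 : orderOf s = 2 := (Subgroup.orderOf_coe _).trans (D.orderOf_zy _)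
  have hne : s ≠ a := fun e => D.ne_zpow (i + 1) _ (Subtype.ext (e.trans hz.symm))
  obtain ⟨g', h'⟩ := h.pair hs2 (hSc (SetLike.coe_mem _)) hne hsx
  set κ := kapX a x₀ with hκ
  set r := (nX x₀ ⊓ cI a).relIndex (nX x₀) with hr
  have hrpos : 0 < r := Nat.pos_of_ne_zero index_ne_zero_of_finite
  obtain ⟨M, hTM, hT'M, hsize⟩ : ∃ M, Nat.card h.tK ≤ M ∧ Nat.card h'.tK ≤ M ∧
      ((M ∣ 3 ∧ D.h ≤ 2 ∧ r = 105) ∨ (4 * (D.h * M) - 1) * (4 * (D.h * M) - 2) ≤ 2 * r) := by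
    have conv : ∀ n, 1 ≤ n → ((n ∣ 3 ∧ D.h ≤ 2 ∧ r = 105) ∨
        ∃ q cl rL : ℕ, 0 < cl ∧ 4 * D.h * n ∣ cl ∧ cl ≤ q + 1 ∧
          (2 * rL = q * (q - 1) ∨ 2 * rL = q * (q + 1)) ∧ rL ∣ r) →
        ((n ∣ 3 ∧ D.h ≤ 2 ∧ r = 105) ∨
          (4 * (D.h * n) - 1) * (4 * (D.h * n) - 2) ≤ 2 * r) := by
      rintro n hn (hA | ⟨q, cl, rL, hcl0, hdvd, hclq, hrL, hrd⟩)
      · exact Or.inl hA
      · refine Or.inr ?_
        rw [← mul_assoc]
        refine size_le hdvd hcl0 hclq hrL hrd hrpos ?_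
        have : 1 ≤ D.h * n := Nat.mul_pos D.h_pos hn
        rw [mul_assoc]; omega
    have hconj : ∃ k ∈ nX x₀, k * a * k⁻¹ = dt S D i := hi ▸ h.exists_conj
    rcases le_total (Nat.card h'.tK) (Nat.card h.tK) with hle | hle
    · exact ⟨_, le_rfl, hle, conv _ Nat.card_pos (exists_socle_size h.min h.nX_ne_top h.ha h.a_mem
        h.b_mem h.not_solvable h.coreK_le_a S D hSK hz hconj h'.exists_conj h.tK_le h.tK_inf_coreK
        fun v hv => hv.2)⟩
    · exact ⟨_, hle, le_rfl, conv _ Nat.card_pos (exists_socle_size h.min h.nX_ne_top h.ha h.a_mem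
        h'.b_mem h.not_solvable h.coreK_le_a S D hSK hz hconj h'.exists_conj h'.tK_le
        h'.tK_inf_coreK fun v hv => hv.2)⟩
  have hκ3 : 3 ≤ κ := h.three_le_kap
  have hκM : κ ≤ M := h.kap_le.trans (h.p_le_tK.trans hTM)
  have hup : (κ - 1) * r * r ≤ 15 * κ ^ 3 * (D.h * M) ^ 2 := by
    have hidx := h.index_mul_relIndex hSc hSK
    rw [← hr, ← hκ] at hidx
    have h1 : (κ - 1) * r * r ≤ (cI a).index * κ :=
      (Nat.mul_le_mul_right _ h.count).trans hidx.ge
    rcases Nat.lt_or_ge D.h 2 with hh | hh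
    · have hh1 : D.h = 1 := by have := D.h_pos; omega
      calc (κ - 1) * r * r ≤ (cI a).index * κ := h1
        _ ≤ 15 * (κ * Nat.card h.tK) ^ 2 * κ :=
          Nat.mul_le_mul_right _ (h.klein_bound D hz hi hSc hh1)
        _ ≤ 15 * (κ * M) ^ 2 * κ := by gcongr
        _ = _ := by rw [hh1]; ring
    · have hJ : Nat.card (coreC a) =
          κ * Nat.card h'.tK * Nat.card (coreC a ⊓ cI s : Subgroup G) := by
        rw [mul_assoc]; exact h'.kap_mul.symm
      have h2 := h.dihedral_bound D hz hi hSc hh hJ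
      rw [← hκ] at h2
      refine Nat.le_of_mul_le_mul_left ?_ (show 0 < 4 by norm_num)
      calc 4 * ((κ - 1) * r * r) ≤ 4 * ((cI a).index * κ) := Nat.mul_le_mul_left _ h1
        _ = 4 * (cI a).index * κ := (mul_assoc _ _ _).symm
        _ ≤ 15 * D.h ^ 2 * (κ * Nat.card h.tK + κ * Nat.card h'.tK) ^ 2 * κ :=
          Nat.mul_le_mul_right _ h2
        _ ≤ 15 * D.h ^ 2 * (κ * M + κ * M) ^ 2 * κ := by gcongr
        _ = _ := by ring
  rcases hsize with ⟨hM3, hh2, hr105⟩ | hlow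
  · have hM : M ≤ 3 := Nat.le_of_dvd (by norm_num) hM3
    have hκe : κ = 3 := by omega
    have hh' : (D.h * M) ^ 2 ≤ 6 ^ 2 :=
      Nat.pow_le_pow_left ((Nat.mul_le_mul hh2 hM).trans_eq rfl) 2
    rw [hκe, hr105] at hup
    omega
  · refine size_false hκ3 ?_ hlow hup
    exact hκM.trans (Nat.le_mul_of_pos_left M D.h_pos)

section Moving

variable {s : G} (hI : InvMod (nX x₀) a) (hs : orderOf s = 2) (hsK : s ∈ nX x₀)
  (hsc : s ∈ cI a) (hne : s ≠ a) (hsx : s * x₀ * s⁻¹ = x₀⁻¹)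

include hI hs hsK hsc hne in
/-- The corrected element inverted by the reflection. -/
theorem exists_twist {v : G} (hv : v ∈ h.tK) :
    ∃ d ∈ coreK (nX x₀), (∀ c ∈ coreK (nX x₀), Commute d c) ∧ s * d * s⁻¹ = d ∧
      s * (v * d) * s⁻¹ = (v * d)⁻¹ := by
  set e := s * v * s⁻¹ * v with he
  have heC : e ∈ coreK (nX x₀) :=
    hI s hsK hs (mem_cI.1 hsc) hne b h.b_mem h.hb v hv.1 hv.2
  have hve : Commute v e := h.tK_commute_coreK hv heC
  have hsv : ∀ c ∈ coreK (nX x₀), Commute (s * v * s⁻¹) c := fun c hc => by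
    have h1 := (h.tK_commute_coreK hv (conj_mem_coreK (inv_mem hsK) hc)).map
      (MulAut.conj s).toMonoidHom
    simpa [MulAut.conj_apply, mul_assoc] using h1
  have hec : ∀ c ∈ coreK (nX x₀), Commute e c := fun c hc =>
    (hsv c hc).mul_left (h.tK_commute_coreK hv hc)
  obtain ⟨n, hn⟩ := exists_sq_root (odd_of_mem (odd_coreK _) heC)
  set d := (e ^ n)⁻¹ with hd
  have hvsv : Commute v (s * v * s⁻¹) := by
    have h1 := hve.mul_right (Commute.refl v).inv_right
    rwa [he, mul_inv_cancel_right] at h1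
  have hse : s * e * s⁻¹ = e := by
    rw [he, show s * (s * v * s⁻¹ * v) * s⁻¹ = s * (s * v * s⁻¹) * s⁻¹ * (s * v * s⁻¹) by group,
      conj_invol_twice (invol_mul_self hs), hvsv.eq]
  have hsd : s * d * s⁻¹ = d := by
    rw [hd, show s * (e ^ n)⁻¹ * s⁻¹ = (s * e ^ n * s⁻¹)⁻¹ by group, ← conj_pow, hse]
  refine ⟨d, inv_mem (pow_mem heC n), fun c hc => ((hec c hc).pow_left n).inv_left, hsd, ?_⟩
  have hvd : Commute v d := (hve.pow_right n).inv_right
  calc s * (v * d) * s⁻¹ = (s * v * s⁻¹) * (s * d * s⁻¹) := by group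
    _ = e * v⁻¹ * d := by rw [hsd, he, mul_inv_cancel_right]
    _ = v⁻¹ * (e * d) := by rw [← hve.inv_left.eq, mul_assoc]
    _ = v⁻¹ * e ^ n := by
      congr 1
      nth_rw 1 [← hn]
      rw [hd, mul_inv_cancel_right]
    _ = (v * d)⁻¹ := by
      rw [hvd.eq, mul_inv_rev, hd, inv_inv]

include hs hsc hne hsx in
/-- The elements of `O(C(a))` inverted by the reflection normalise the line. -/
theorem inverted_mem {x : G} (hx : x ∈ coreC a) (hxi : s * x * s⁻¹ = x⁻¹) : x ∈ nX x₀ := by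
  have hsP : ∀ u ∈ h.plane, s * u * s⁻¹ = u⁻¹ := by
    rintro _ ⟨v, hv, w, ⟨i, rfl⟩, rfl⟩
    rw [show s * (v * x₀ ^ i) * s⁻¹ = (s * v * s⁻¹) * (s * x₀ ^ i * s⁻¹) by group, ← conj_zpow,
      hsx, h.mixed.inverts h.ctx hs hsc hne hv, inv_zpow,
      ((h.zP_comm_x hv).zpow_right i).eq, mul_inv_rev]
  have hxx : x * x ∈ nX x₀ := by
    refine h.mem_nX_of_commute (mul_inv_eq_iff_eq_mul.1 ?_)
    have hx0 := h.x_le_plane (mem_zpowers x₀)
    have h1 : s * (x * x₀ * x⁻¹) * s⁻¹ = x⁻¹ * x₀⁻¹ * x := by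
      calc s * (x * x₀ * x⁻¹) * s⁻¹ = (s * x * s⁻¹) * (s * x₀ * s⁻¹) * (s * x * s⁻¹)⁻¹ := by group
        _ = x⁻¹ * x₀⁻¹ * x := by rw [hxi, hsx, inv_inv]
    have h2 : s * (x * x₀ * x⁻¹) * s⁻¹ = x * x₀⁻¹ * x⁻¹ := by
      rw [hsP _ (h.conj_plane (coreC_le_cI a hx) hx0)]; group
    calc x * x * x₀ * (x * x)⁻¹ = (x * (x * x₀⁻¹ * x⁻¹) * x⁻¹)⁻¹ := by
          simp only [mul_inv_rev, inv_inv, mul_assoc]
      _ = (x * (x⁻¹ * x₀⁻¹ * x) * x⁻¹)⁻¹ := by rw [h2.symm.trans h1]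
      _ = x₀ := by group
  obtain ⟨n, hn⟩ := exists_sq_root (odd_orderOf_mem_coreC hx)
  rw [← hn, ← (Commute.refl x).mul_pow]
  exact pow_mem hxx n

include hI hs hsK hsc hne hsx in
/-- An inverted element is the product of an inverted element and an element of the core. -/
theorem inverted_split {x : G} (hx : x ∈ coreC a) (hxi : s * x * s⁻¹ = x⁻¹) :
    ∃ c ∈ coreK (nX x₀), ∃ v ∈ h.tK, x = v * c := by
  have hxK := h.inverted_mem hs hsc hne hsx hx hxi
  obtain ⟨w, hw, v, hv, rfl⟩ := h.exists_split (mem_inf.2 ⟨hxK, hx⟩)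
  set c := b * (w * v) * b⁻¹ * (w * v)
  have hc : c ∈ coreK (nX x₀) :=
    hI b h.b_mem h.hb h.comm.symm h.hne s hsK hs _ ⟨hxK, hx⟩ hxi
  have hwb : Commute b w := (mem_cI.1 hw.2).symm
  set t := w⁻¹ * v⁻¹ * w * v
  have ht : t ∈ h.tK := by
    have := h.W_conj_tK (inv_mem hw) (inv_mem hv)
    rw [inv_inv] at this
    exact mul_mem this hv
  have hct : c = w * w * t := by
    calc c = (b * w * b⁻¹) * (b * v * b⁻¹) * (w * v) := by simp only [c]; group
      _ = w * w * t := by rw [hwb.eq, mul_inv_cancel_right, hv.2]; simp only [t]; group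
  have ht1 : t = 1 := eq_one_of_fixed_inverted (odd_orderOf_mem_coreC ht.1.2)
    (by
      have h1 : Commute b ((w * w)⁻¹ * c) := ((hwb.mul_right hwb).inv_right).mul_right
        (mem_cI.1 (h.coreK_le_b hc)).symm
      rwa [hct, inv_mul_cancel_left] at h1) ht.2
  have hww : w * w ∈ coreK (nX x₀) := by rw [hct, ht1, mul_one] at hc; exact hc
  obtain ⟨n, hn⟩ := exists_sq_root (odd_orderOf_mem_coreC hw.1)
  have hwc : w ∈ coreK (nX x₀) := by
    rw [← hn, ← (Commute.refl w).mul_pow]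
    exact pow_mem hww n
  exact ⟨w, hwc, v, hv, (h.tK_commute_coreK hv hwc).eq.symm⟩

include hI hs hsK hsc hne hsx in
/-- The inverted elements of `O(C(a))` have exponent dividing the order of the inverted part. -/
theorem pow_inverted {x : G} (hx : x ∈ coreC a) (hxi : s * x * s⁻¹ = x⁻¹) :
    x ^ Nat.card h.tK = 1 := by
  set T := Nat.card h.tK
  have hT : ∀ t ∈ h.tK, t ^ T = 1 := fun t ht =>
    orderOf_dvd_iff_pow_eq_one.1 (Subgroup.orderOf_dvd_natCard _ ht)
  have hW : ∀ w ∈ coreK (nX x₀), s * w * s⁻¹ = w⁻¹ → w ^ T = 1 := by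
    intro w hw hwi
    obtain ⟨o, ho, hoK⟩ := SetLike.not_le_iff_exists.1 h.not_coreC_le
    obtain ⟨r, v, hr, hv, rfl, hrs, hvs⟩ := exists_fixed_mul_inv (odd_coreC a) (invol_mul_self hs)
      (fun x hx => conj_mem_coreC hsc hx) ho
    have hrK : r ∉ nX x₀ := fun hrK => hoK (mul_mem hrK (h.inverted_mem hs hsc hne hsx hv hvs))
    obtain ⟨c, hc, t, ht, he⟩ := h.inverted_split hI hs hsK hsc hne hsx
      (x := r * w * r⁻¹) (mul_mem (mul_mem hr (h.coreK_le_coreC hw)) (inv_mem hr)) (by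
        calc s * (r * w * r⁻¹) * s⁻¹ = (s * r * s⁻¹) * (s * w * s⁻¹) * (s * r * s⁻¹)⁻¹ := by group
          _ = (r * w * r⁻¹)⁻¹ := by rw [hrs.eq, mul_inv_cancel_right, hwi]; group)
    refine h.eq_one_of_conj_coreK hr hrK (pow_mem hw T) ?_
    rw [← conj_pow, he, (h.tK_commute_coreK ht hc).mul_pow, hT t ht, one_mul]
    exact pow_mem hc T
  obtain ⟨c, hc, v, hv, rfl⟩ := h.inverted_split hI hs hsK hsc hne hsx hx hxi
  obtain ⟨d, hd, hdc, hsd, hdi⟩ := h.exists_twist hI hs hsK hsc hne hv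
  set w := d⁻¹ * c
  have hw : w ∈ coreK (nX x₀) := mul_mem (inv_mem hd) hc
  have hvd : v * c = v * d * w := by simp only [w]; group
  have hcw : Commute (v * d) w := (h.tK_commute_coreK hv hw).mul_left (hdc _ hw)
  have hwi : s * w * s⁻¹ = w⁻¹ := by
    have h1 := hxi
    rw [hvd, show s * (v * d * w) * s⁻¹ = (s * (v * d) * s⁻¹) * (s * w * s⁻¹) by group, hdi,
      show (v * d * w)⁻¹ = (v * d)⁻¹ * w⁻¹ by rw [hcw.eq, mul_inv_rev]] at h1
    exact mul_left_cancel h1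
  have hxd : (v * c) ^ T = d ^ T := by
    rw [hvd, hcw.mul_pow, (h.tK_commute_coreK hv hd).mul_pow, hT v hv, hW w hw hwi, one_mul,
      mul_one]
  rw [hxd]
  refine eq_one_of_inv_eq (odd_of_mem (odd_coreK _) (pow_mem hd T)) ?_
  calc (d ^ T)⁻¹ = ((v * c) ^ T)⁻¹ := by rw [hxd]
    _ = s * (v * c) ^ T * s⁻¹ := by rw [← conj_pow, hxi, inv_pow]
    _ = s * d ^ T * s⁻¹ := by rw [hxd]
    _ = d ^ T := by rw [← conj_pow, hsd]

end Moving

/-- The case of a second reflection inverting the line. -/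
theorem false_of_moved {S : Sylow 2 G} (D : DihData (S : Subgroup G)) (hz : dz S D = a)
    (hSK : (S : Subgroup G) ≤ nX x₀) {s : G} (hs : orderOf s = 2) (hsK : s ∈ nX x₀)
    (hsc : s ∈ cI a) (hne : s ≠ a) (hsx : ¬ Commute s x₀) : False := by
  have hss := invol_mul_self hs
  have hinv : s * x₀ * s⁻¹ = x₀⁻¹ := by
    have hx' : s * x₀ * s⁻¹ ∈ zpowers x₀ := (mem_normalizer_iff.1 hsK x₀).1 (mem_zpowers x₀)
    obtain ⟨k, hk⟩ := hx'
    set w := x₀ * (s * x₀ * s⁻¹)
    have hcomm : Commute x₀ (s * x₀ * s⁻¹) := by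
      rw [← show x₀ ^ k = s * x₀ * s⁻¹ from hk]; exact (Commute.refl x₀).zpow_right k
    have hwfix : Commute s w := by
      refine mul_inv_eq_iff_eq_mul.1 ?_
      calc s * (x₀ * (s * x₀ * s⁻¹)) * s⁻¹
          = (s * x₀ * s⁻¹) * (s * (s * x₀ * s⁻¹) * s⁻¹) := by group
        _ = (s * x₀ * s⁻¹) * x₀ := by rw [conj_invol_twice hss]
        _ = x₀ * (s * x₀ * s⁻¹) := hcomm.eq.symm
    have hw1 : w = 1 := by
      by_contra hw1
      refine hsx ?_
      obtain ⟨j, hj⟩ : x₀ ∈ zpowers w :=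
        h.x_gen (mul_mem (mem_zpowers x₀) ⟨k, hk⟩) hw1 ▸ mem_zpowers x₀
      exact hj ▸ hwfix.zpow_right j
    exact eq_inv_of_mul_eq_one_right hw1
  rcases alt_or_inverts h.min h.nX_ne_top h.ha h.a_mem with ⟨hgen, -⟩ | hI
  · obtain ⟨o, ho, hso⟩ := hgen s hsK (centralizer (coreK (nX x₀) : Set G)) fun c hc =>
      mem_centralizer_iff.2 fun k hk => (conj_commute_coreK h.coreK_le_a hc hk).eq.symm
    have h1 : x₀ * (s * o) = s * o * x₀ := mem_centralizer_iff.1 hso x₀ h.x_mem_coreK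
    refine h.x_ne (eq_one_of_inverts_z (e := o) (odd_of_mem (odd_coreK _) ho)
      (odd_orderOf_mem_coreC h.x_mem_coreC) ?_)
    calc o * x₀ * o⁻¹ = s⁻¹ * (s * o * x₀) * o⁻¹ := by group
      _ = s⁻¹ * x₀ * s := by rw [← h1]; group
      _ = x₀⁻¹ := by
        rw [show s⁻¹ = s from invol_inv hs] at *
        exact hinv
  obtain ⟨y, hyo, hys, hya, hyT⟩ := exists_outer_element h.min h.nX_ne_top h.ha h.a_mem h.b_mem
    h.not_solvable h.coreK_le_a S D hSK hz hs hsK (mem_cI.1 hsc) hne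
    (fun hall => hsx (hall x₀ h.x_mem_coreK)) h.tK_le h.tK_inf_coreK (fun v hv => hv.2)
  obtain ⟨g', hg'⟩ := h.min.four_of_invol h.ha hs hsc hne
  have hy : y ∈ coreC s := h.min.mem_coreC hs (mem_cI.2 hys.eq) hyo
  rw [← hg'.ga, ← coreC_conj] at hy
  obtain ⟨x, hx, rfl⟩ := hy
  simp only [MulEquiv.coe_toMonoidHom, MulAut.conj_apply] at hya hyT
  refine hyT ?_
  have hconj : g'⁻¹ * a * g' = a * s := by
    calc g'⁻¹ * a * g' = g'⁻¹ * (g' * (a * s) * g'⁻¹) * g' := by rw [hg'.gab]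
      _ = a * s := by group
  have h1 : (a * s) * x * (a * s)⁻¹ = x⁻¹ := by
    calc (a * s) * x * (a * s)⁻¹ = g'⁻¹ * (a * (g' * x * g'⁻¹) * a⁻¹) * g' := by
          rw [← hconj]; group
      _ = x⁻¹ := by rw [hya]; group
  have hxa : Commute x a := mem_cI.1 (coreC_le_cI a hx)
  have hxi : s * x * s⁻¹ = x⁻¹ := by
    calc s * x * s⁻¹ = a⁻¹ * ((a * s) * x * (a * s)⁻¹) * a := by group
      _ = a⁻¹ * (x⁻¹ * a) := by rw [h1, mul_assoc]
      _ = x⁻¹ := by rw [hxa.inv_left.eq, inv_mul_cancel_left]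
  rw [conj_pow, h.pow_inverted hI hs hsK hsc hne hinv hx hxi, mul_one, mul_inv_cancel]

theorem false : False := by
  obtain ⟨S, D, i, hz, hi, hSc⟩ := exists_data h.min h.ha h.hb h.b_mem_cI h.hne
  have hSK := h.sylow_le D hi hSc
  by_cases hsx : Commute (dt S D (i + 1)) x₀
  · exact h.false_of_fixed D hz hi hSc hSK hsx
  · exact h.false_of_moved D hz hSK ((Subgroup.orderOf_coe _).trans (D.orderOf_zy _))
      (hSK (SetLike.coe_mem _)) (hSc (SetLike.coe_mem _))
      (fun e => D.ne_zpow (i + 1) _ (Subtype.ext (e.trans hz.symm))) hsx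

end Sm

end CfsgLib.GW.Small

namespace CfsgLib.GW

universe u

variable {G : Type u} [Group G] [Finite G]

/-- **The small kill.** An element of order `p` of the `p`-core, central modulo `zP a p` and fixed by
`b`, spans with `zP a p` no subgroup normalised by `C(a)`. -/
theorem Mixed.small_false (C : Ctx G) {a b g x₀ : G} {p : ℕ} (h : Mixed a b g p)
    (hx : x₀ ∈ eP a p) (hxb : x₀ ∈ cI b) (hxz : x₀ ∉ zP a p)
    (hA : ∀ x ∈ cI a, x * x₀ * x⁻¹ ∈ zP a p ⊔ Subgroup.zpowers x₀) : False := by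
  obtain ⟨z, hzo, hzg⟩ := h.exists_generator C
  exact Small.Sm.false (z := z) (g := g) (b := b) ⟨C, h, hzo, hzg, hx, hxb, hxz, hA⟩

end CfsgLib.GW
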