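import Cfsg.Agent.Lib.GW.Component.Small.Setup

/-!
The orbit of the line under `O(C(a))` and the index of its normalizer.
-/

set_option autoImplicit false
set_option linter.unusedSectionVars false
set_option linter.style.haveILetI false

namespace CfsgLib.GW.Small

open Subgroup CfsgLib.Invol CfsgLib.BlockA.DihedralBlock
open CfsgLib.GW.Alpha

universe u

variable {G : Type u} [Group G] [Finite G]

/-- The number of conjugates of the line under `O(C(a))`. -/
noncomputable abbrev kapX (a x₀ : G) : ℕ := ((nX x₀).subgroupOf (coreC a)).index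

namespace Sm

variable {a b g z x₀ : G} {p : ℕ} (h : Sm a b g z x₀ p)
include h

theorem kap_mul : kapX a x₀ * (Nat.card h.tK * Nat.card (coreC a ⊓ cI b : Subgroup G)) =
    Nat.card (coreC a) := by
  rw [← h.card_inf, ← index_mul_card ((nX x₀ ⊓ coreC a).subgroupOf (coreC a)),
    Nat.card_congr (subgroupOfEquivOfLe (inf_le_right : nX x₀ ⊓ coreC a ≤ coreC a)).toEquiv,
    inf_subgroupOf_right]

theorem three_le_kap : 3 ≤ kapX a x₀ := by
  have h1 : kapX a x₀ ≠ 1 := fun e => h.not_coreC_le (subgroupOf_eq_top.1 (index_eq_one.1 e))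
  have h2 : Odd (kapX a x₀) := (odd_coreC a).of_dvd_nat ⟨_, h.kap_mul.symm⟩
  obtain ⟨m, hm⟩ := h2
  omega

theorem card_plane : Nat.card h.plane = p * p := by
  have hz : Nat.card (zP a p) = p := by rw [h.zgen, Nat.card_zpowers, h.zord]
  have hx : Nat.card (zpowers x₀) = p := by rw [Nat.card_zpowers, h.x_ord]
  have e : Nat.card (zP a p × zpowers x₀) = p * p := by rw [Nat.card_prod, hz, hx]
  rw [← e]
  symm
  refine Nat.card_congr (Equiv.ofBijective
    (fun vw => (⟨(vw.1 : G) * vw.2, _, vw.1.2, _, vw.2.2, rfl⟩ : h.plane)) ⟨?_, fun x => ?_⟩)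
  · rintro ⟨v, w⟩ ⟨v', w'⟩ he
    have he' : (v : G) * w = v' * w' := congrArg Subtype.val he
    have hd : (v' : G)⁻¹ * v = w' * (w : G)⁻¹ := by
      rw [eq_mul_inv_iff_mul_eq, mul_assoc, he', inv_mul_cancel_left]
    have h1 : (v' : G)⁻¹ * v = 1 :=
      h.zP_inf_x (mul_mem (inv_mem v'.2) v.2) (hd ▸ mul_mem w'.2 (inv_mem w.2))
    rw [inv_mul_eq_one] at h1
    rw [← h1] at he'
    exact Prod.ext (Subtype.ext h1.symm) (Subtype.ext (mul_left_cancel he'))
  · obtain ⟨v, hv, w, hw, he⟩ := x.2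
    exact ⟨⟨⟨v, hv⟩, ⟨w, hw⟩⟩, Subtype.ext he.symm⟩

theorem kap_le : kapX a x₀ ≤ p := by
  classical
  have hne := h.mixed.hp.two_le
  have := Fintype.ofFinite G
  have := Fintype.ofFinite (zpowers x₀)
  let D := (coreC a ⧸ (nX x₀).subgroupOf (coreC a))
  let F : D × {w : zpowers x₀ // w ≠ 1} → ((h.plane : Set G) \ (zP a p : Set G) : Set G) :=
    fun x => ⟨((x.1.out : coreC a) : G) * ((x.2.1 : zpowers x₀) : G) * ((x.1.out : coreC a) : G)⁻¹,
      h.conj_plane (coreC_le_cI a (SetLike.coe_mem _)) (h.x_le_plane x.2.1.2), fun hm => by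
        refine x.2.2 (Subtype.ext (h.zP_inf_x ?_ x.2.1.2))
        have := conj_mem_zP (coreC_le_cI a (inv_mem (SetLike.coe_mem (x.1.out : coreC a)))) hm
        simpa [mul_assoc] using this⟩
  have hF : Function.Injective F := by
    rintro ⟨c, w⟩ ⟨c', w'⟩ he
    have he' := congrArg Subtype.val he
    simp only [F] at he'
    set o := ((c.out : coreC a) : G)
    set o' := ((c'.out : coreC a) : G)
    have hm : o'⁻¹ * o ∈ nX x₀ := by
      refine h.mem_of_conj_mem w.1.2 (fun e => w.2 (Subtype.ext e)) ?_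
      rw [show o'⁻¹ * o * (w.1 : G) * (o'⁻¹ * o)⁻¹ = o'⁻¹ * (o * (w.1 : G) * o⁻¹) * o' by group,
        he', show o'⁻¹ * (o' * (w'.1 : G) * o'⁻¹) * o' = (w'.1 : G) by group]
      exact w'.1.2
    have hc : c' = c := by
      rw [← c.out_eq, ← c'.out_eq]
      exact QuotientGroup.eq.2 (mem_subgroupOf.2 hm)
    subst hc
    exact Prod.ext rfl (Subtype.ext (Subtype.ext (mul_left_cancel (mul_right_cancel he'))))
  have key := Nat.card_le_card_of_injective F hF
  have e1 : Nat.card {w : zpowers x₀ // w ≠ 1} = p - 1 := by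
    rw [Nat.card_eq_fintype_card, Fintype.card_subtype_compl, Fintype.card_subtype_eq,
      ← Nat.card_eq_fintype_card, Nat.card_zpowers, h.x_ord]
  rw [Nat.card_prod, e1, ← index_eq_card, Nat.card_coe_set_eq,
    Set.ncard_sdiff (show (zP a p : Set G) ⊆ h.plane from h.zP_le_plane), ← Nat.card_coe_set_eq,
    ← Nat.card_coe_set_eq, SetLike.coe_sort_coe, SetLike.coe_sort_coe, h.card_plane, h.zgen,
    Nat.card_zpowers, h.zord] at key
  refine Nat.le_of_mul_le_mul_right (c := p - 1) ?_ (by omega)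
  rwa [Nat.mul_sub p p 1, mul_one]

/-- An inverted element outside the normalizer represents all cosets by its powers. -/
theorem pow_rep {e : G} (he : e ∈ coreC a) (hei : b * e * b⁻¹ = e⁻¹) (heK : e ∉ nX x₀) :
    ∀ o ∈ coreC a, ∃ i : ℕ, (e ^ i)⁻¹ * o ∈ nX x₀ := by
  classical
  have hez : ∀ v ∈ zP a p, Commute e v := fun v hv => by
    refine commute_of_conj_eq (odd_orderOf_mem_coreC he) ?_
    have hv' := conj_mem_zP (coreC_le_cI a he) hv
    calc e * v * e⁻¹ = ((e * v * e⁻¹)⁻¹)⁻¹ := (inv_inv _).symm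
      _ = (b * (e * v * e⁻¹) * b⁻¹)⁻¹ := by rw [h.mixed.b_inverts h.ctx hv']
      _ = ((b * e * b⁻¹) * (b * v * b⁻¹) * (b * e * b⁻¹)⁻¹)⁻¹ := by group
      _ = e⁻¹ * v * e := by rw [hei, h.mixed.b_inverts h.ctx hv]; group
  obtain ⟨c, hc, z', hz', hsplit⟩ :=
    h.conj_plane (coreC_le_cI a he) (h.x_le_plane (mem_zpowers x₀))
  have hcz' : Commute c z' := h.xpow_commute_zP hc hz'
  rw [hcz'.eq] at hsplit
  have hc1 : c ≠ 1 := fun e1 => heK (h.mem_nX_of_conj (by rw [hsplit, e1, mul_one]; exact hz'))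
  have hec : e * c⁻¹ * e⁻¹ = c⁻¹ := by rw [(hez c hc).inv_right.eq, mul_inv_cancel_right]
  have hbc : b * c * b⁻¹ = c⁻¹ := h.mixed.b_inverts h.ctx hc
  have hbx : ∀ w ∈ zpowers x₀, b * w * b⁻¹ = w := fun w hw => by
    rw [← mem_cI.1 (zpowers_le.2 h.hxb hw), mul_inv_cancel_right]
  have h1 : e⁻¹ * x₀ * e = z' * c⁻¹ := by
    calc e⁻¹ * x₀ * e = (b * e * b⁻¹) * (b * x₀ * b⁻¹) * (b * e * b⁻¹)⁻¹ := by
          rw [hei, hbx x₀ (mem_zpowers x₀), inv_inv]
      _ = b * (e * x₀ * e⁻¹) * b⁻¹ := by group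
      _ = (b * z' * b⁻¹) * (b * c * b⁻¹) := by rw [hsplit]; group
      _ = z' * c⁻¹ := by rw [hbx z' hz', hbc]
  have h2 : e * z' * e⁻¹ = x₀ * c := by
    have : x₀ = e * z' * e⁻¹ * (e * c⁻¹ * e⁻¹) := by
      calc x₀ = e * (e⁻¹ * x₀ * e) * e⁻¹ := by group
        _ = e * (z' * c⁻¹) * e⁻¹ := by rw [h1]
        _ = _ := by group
    rw [hec] at this
    exact mul_inv_eq_iff_eq_mul.1 this.symm
  have h3 : e ^ 2 * x₀ * (e ^ 2)⁻¹ = x₀ * c ^ 2 := by
    calc e ^ 2 * x₀ * (e ^ 2)⁻¹ = e * (e * x₀ * e⁻¹) * e⁻¹ := by rw [pow_two]; group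
      _ = (e * z' * e⁻¹) * (e * c * e⁻¹) := by rw [hsplit]; group
      _ = x₀ * c ^ 2 := by rw [h2, (hez c hc).eq, mul_inv_cancel_right, mul_assoc, pow_two]
  have h4 : ∀ i : ℕ, e ^ (2 * i) * x₀ * (e ^ (2 * i))⁻¹ = x₀ * c ^ (2 * i) := by
    intro i
    induction i with
    | zero => simp
    | succ i ih =>
      calc e ^ (2 * (i + 1)) * x₀ * (e ^ (2 * (i + 1)))⁻¹
          = e ^ 2 * (e ^ (2 * i) * x₀ * (e ^ (2 * i))⁻¹) * (e ^ 2)⁻¹ := by
            rw [show 2 * (i + 1) = 2 + 2 * i by ring, pow_add]; group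
        _ = (e ^ 2 * x₀ * (e ^ 2)⁻¹) * (e ^ 2 * c ^ (2 * i) * (e ^ 2)⁻¹) := by rw [ih]; group
        _ = _ := by
          rw [h3, ((hez c hc).pow_pow 2 (2 * i)).eq, mul_inv_cancel_right, mul_assoc, ← pow_add,
            show 2 * (i + 1) = 2 + 2 * i by ring]
  haveI := h.fact
  have hinK : ∀ d : ℕ, e ^ (2 * d) ∈ nX x₀ → p ∣ d := by
    intro d hd
    have hq : x₀ * c ^ (2 * d) ∈ zpowers x₀ :=
      h4 d ▸ (mem_normalizer_iff.1 hd x₀).1 (mem_zpowers x₀)
    have h5 : c ^ (2 * d) ∈ zpowers x₀ := by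
      simpa using mul_mem (inv_mem (mem_zpowers x₀)) hq
    have h6 : c ^ (2 * d) = 1 := h.zP_inf_x (pow_mem hc _) h5
    rw [← orderOf_dvd_iff_pow_eq_one, orderOf_eq_prime hc.2.2 hc1] at h6
    exact ((Nat.coprime_primes h.mixed.hp Nat.prime_two).2 h.mixed.ne_two).dvd_of_dvd_mul_left h6
  let f : Fin p → coreC a ⧸ (nX x₀).subgroupOf (coreC a) := fun i =>
    QuotientGroup.mk ⟨e ^ (2 * (i : ℕ)), pow_mem he _⟩
  have hf : Function.Injective f := by
    have key : ∀ i j : Fin p, (i : ℕ) ≤ j → f i = f j → i = j := by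
      intro i j hij hfe
      have hm : (e ^ (2 * (i : ℕ)))⁻¹ * e ^ (2 * (j : ℕ)) ∈ nX x₀ :=
        mem_subgroupOf.1 (QuotientGroup.eq.1 hfe)
      obtain ⟨d, hd⟩ := Nat.exists_eq_add_of_le hij
      rw [hd, mul_add, pow_add, inv_mul_cancel_left] at hm
      have hdp : d = 0 := Nat.eq_zero_of_dvd_of_lt (hinK d hm) (by have := j.2; omega)
      exact Fin.ext (by omega)
    intro i j hfe
    rcases le_total (i : ℕ) j with hle | hle
    · exact key i j hle hfe
    · exact (key j i hle hfe.symm).symm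
  have hsurj : Function.Surjective f := by
    have : Fintype (coreC a ⧸ (nX x₀).subgroupOf (coreC a)) := Fintype.ofFinite _
    refine ((Fintype.bijective_iff_injective_and_card f).2 ⟨hf, le_antisymm
      (Fintype.card_le_of_injective f hf) ?_⟩).2
    rw [Fintype.card_fin, ← Nat.card_eq_fintype_card, ← index_eq_card]
    exact h.kap_le
  intro o ho
  obtain ⟨i, hi⟩ := hsurj (QuotientGroup.mk ⟨o, ho⟩)
  exact ⟨2 * (i : ℕ), mem_subgroupOf.1 (QuotientGroup.eq.1 hi)⟩

theorem card_cI {S : Sylow 2 G} (hSc : (S : Subgroup G) ≤ cI a) :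
    Nat.card (cI a) = Nat.card (coreC a) * Nat.card (S : Subgroup G) := by
  have h1 := card_inf_cI h.min h.ha hSc (L := ⊤) le_top
  rwa [top_inf_eq, top_inf_eq] at h1

theorem index_mul_relIndex {S : Sylow 2 G} (hSc : (S : Subgroup G) ≤ cI a)
    (hSK : (S : Subgroup G) ≤ nX x₀) :
    (cI a).index * kapX a x₀ = (nX x₀).index * (nX x₀ ⊓ cI a).relIndex (nX x₀) := by
  have hrel : (nX x₀).relIndex (cI a) = kapX a x₀ := by
    have h1 := relIndex_mul_card' (inf_le_right : nX x₀ ⊓ cI a ≤ cI a)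
    rw [inf_relIndex_right, card_inf_cI h.min h.ha hSc hSK, h.card_cI hSc, h.card_inf, ← h.kap_mul,
      ← mul_assoc (kapX a x₀)] at h1
    have hpos : 0 < Nat.card h.tK * Nat.card (coreC a ⊓ cI b : Subgroup G) *
        Nat.card (S : Subgroup G) := Nat.mul_pos (Nat.mul_pos Nat.card_pos Nat.card_pos) Nat.card_pos
    exact Nat.eq_of_mul_eq_mul_right hpos (by linarith)
  rw [← hrel, ← inf_relIndex_right (nX x₀) (cI a), mul_comm,
    relIndex_mul_index inf_le_right, mul_comm ((nX x₀).index), relIndex_mul_index inf_le_left]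

/-- **The index of the normalizer is large.** -/
theorem count : (kapX a x₀ - 1) * (nX x₀ ⊓ cI a).relIndex (nX x₀) ≤ (nX x₀).index := by
  classical
  set K := nX x₀
  set O := coreC a
  let C := K ⧸ (K ⊓ cI a).subgroupOf K
  let D := {c : O ⧸ K.subgroupOf O // c ≠ QuotientGroup.mk 1}
  have hD : Nat.card D = kapX a x₀ - 1 := by
    have := Fintype.ofFinite (O ⧸ K.subgroupOf O)
    rw [Nat.card_eq_fintype_card, Fintype.card_subtype_compl, Fintype.card_subtype_eq,
      ← Nat.card_eq_fintype_card, ← index_eq_card]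
  have hnot : ∀ c : D, ((c.1.out : O) : G) ∉ K := fun c hc => c.2 (by
    rw [← c.1.out_eq]
    exact (QuotientGroup.eq.2 (mem_subgroupOf.2 (by simpa using hc))).symm)
  let f : D × C → G ⧸ K := fun x =>
    QuotientGroup.mk (((x.2.out : K) : G) * ((x.1.1.out : O) : G))
  have hf : Function.Injective f := by
    rintro ⟨c, m⟩ ⟨c', m'⟩ he
    set o := ((c.1.out : O) : G)
    set o' := ((c'.1.out : O) : G)
    set n := ((m.out : K) : G)⁻¹ * ((m'.out : K) : G)
    have hk : o⁻¹ * n * o' ∈ K := by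
      have h1 := QuotientGroup.eq.1 he
      convert h1 using 1
      simp only [o, o', n]
      group
    set k := o⁻¹ * n * o'
    have hnK : n ∈ K := mul_mem (inv_mem (SetLike.coe_mem _)) (SetLike.coe_mem _)
    obtain ⟨v, hv, w, hw, hvw⟩ :=
      h.conj_plane (c := o') (coreC_le_cI a (SetLike.coe_mem _)) (h.x_le_plane (mem_zpowers x₀))
    have hv1 : v ≠ 1 := fun e => hnot c' (h.mem_nX_of_conj (by rw [hvw, e, one_mul]; exact hw))
    have hle : h.plane ≤ h.plane.comap (MulAut.conj n).toMonoidHom := by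
      have hline : zpowers x₀ ≤ h.plane.comap (MulAut.conj n).toMonoidHom := fun u hu =>
        mem_comap.2 (h.x_le_plane ((mem_normalizer_iff.1 hnK u).1 hu))
      have hoxo : o' * x₀ * o'⁻¹ ∈ h.plane.comap (MulAut.conj n).toMonoidHom := by
        refine mem_comap.2 ?_
        show n * (o' * x₀ * o'⁻¹) * n⁻¹ ∈ h.plane
        rw [show n * (o' * x₀ * o'⁻¹) * n⁻¹ = o * (k * x₀ * k⁻¹) * o⁻¹ by simp only [k]; group]
        exact h.conj_plane (coreC_le_cI a (SetLike.coe_mem _))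
          (h.x_le_plane ((mem_normalizer_iff.1 hk x₀).1 (mem_zpowers x₀)))
      have hvmem : v ∈ h.plane.comap (MulAut.conj n).toMonoidHom := by
        have := mul_mem hoxo (inv_mem (hline hw))
        rwa [hvw, mul_inv_cancel_right] at this
      rintro _ ⟨u, hu, w', hw', rfl⟩
      refine mul_mem (?_ : u ∈ _) (hline hw')
      haveI := h.fact
      have hgen : zP a p = zpowers v := by
        refine (eq_of_le_of_card_ge (zpowers_le.2 hv) ?_).symm
        rw [h.zgen, Nat.card_zpowers, Nat.card_zpowers, h.zord, orderOf_eq_prime hv.2.2 hv1]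
      rw [hgen] at hu
      exact zpowers_le.2 hvmem hu
    have hnH : n ∈ cI a := by
      rw [← h.normalizer_plane]
      exact mem_normalizer_iff_of_finite fun x hx => mem_comap.1 (hle hx)
    have hm : m = m' := by
      rw [← m.out_eq, ← m'.out_eq]
      exact QuotientGroup.eq.2 (mem_subgroupOf.2 ⟨hnK, hnH⟩)
    subst hm
    have hc : c = c' := by
      refine Subtype.ext ?_
      rw [← c.1.out_eq, ← c'.1.out_eq]
      refine QuotientGroup.eq.2 (mem_subgroupOf.2 ?_)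
      simpa [k, n] using hk
    exact Prod.ext hc rfl
  have h1 := Nat.card_le_card_of_injective f hf
  rwa [Nat.card_prod, hD, ← index_eq_card, ← index_eq_card] at h1

/-- The core and its conjugate by an element of `O(C(a))` outside the normalizer meet trivially. -/
theorem eq_one_of_conj_coreK {r d : G} (hr : r ∈ coreC a) (hrK : r ∉ nX x₀)
    (hd : d ∈ coreK (nX x₀)) (hd' : r * d * r⁻¹ ∈ coreK (nX x₀)) : d = 1 := by
  by_contra hd1
  set K := nX x₀ with hK
  set b' := r⁻¹ * b * r with hb'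
  have hb'd : Commute b' d := by
    have h1 : Commute b (r * d * r⁻¹) := (mem_cI.1 (h.coreK_le_b hd')).symm
    have h2 := h1.map (MulAut.conj r⁻¹).toMonoidHom
    simpa [MulAut.conj_apply, mul_assoc, hb'] using h2
  have hbd : Commute b d := (mem_cI.1 (h.coreK_le_b hd)).symm
  have hbb := invol_mul_self h.hb
  have hbi := invol_inv h.hb
  set e := b * b' with he
  have he_eq : e = (b * r⁻¹ * b⁻¹) * r := by rw [he, hb', hbi]; group
  have heO : e ∈ coreC a := he_eq ▸ mul_mem (h.b_conj_coreC (inv_mem hr)) hr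
  have hei : b * e * b⁻¹ = e⁻¹ := by
    have hb'i : b'⁻¹ = b' := by rw [hb', mul_inv_rev, mul_inv_rev, inv_inv, hbi, mul_assoc]
    rw [he, mul_inv_rev, hb'i, hbi, ← mul_assoc, hbb, one_mul]
  have heK : e ∉ K := by
    intro heK
    have hex : Commute e x₀ := h.tK_commute_coreK ⟨⟨heK, heO⟩, hei⟩ h.x_mem_coreK
    have hb'x : Commute b' x₀ := by
      have h1 : Commute (b * e) x₀ := (show Commute b x₀ from (mem_cI.1 h.hxb).symm).mul_left hex
      rwa [he, ← mul_assoc, hbb, one_mul] at h1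
    have h2 := hb'x.map (MulAut.conj r).toMonoidHom
    simp only [MulEquiv.coe_toMonoidHom, MulAut.conj_apply,
      show r * b' * r⁻¹ = b by rw [hb']; group] at h2
    exact hrK (h.mem_nX_of_conj (h.fixed_mem
      (h.conj_plane (coreC_le_cI a hr) (h.x_le_plane (mem_zpowers x₀))) (mem_cI.2 h2.eq.symm)))
  have hed : Commute e d := hbd.mul_left hb'd
  have hrep := h.pow_rep heO hei heK
  obtain ⟨S, D, i, -, hi', hSc⟩ := exists_data h.min h.ha h.hb h.b_mem_cI h.hne
  have hSK := h.sylow_le D hi' hSc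
  let E : Subgroup G :=
    { carrier := {x | ∀ c ∈ cI a, c * x * c⁻¹ ∈ coreK K}
      one_mem' := fun c _ => by simp
      mul_mem' := fun {x x'} hx hx' c hc => by
        rw [show c * (x * x') * c⁻¹ = (c * x * c⁻¹) * (c * x' * c⁻¹) by group]
        exact mul_mem (hx c hc) (hx' c hc)
      inv_mem' := fun {x} hx c hc => by
        rw [show c * x⁻¹ * c⁻¹ = (c * x * c⁻¹)⁻¹ by group]
        exact inv_mem (hx c hc) }
  have hdE : d ∈ E := by
    intro c hc
    obtain ⟨o, ho, t, ht, hot⟩ := exists_mul_sylow h.min h.ha hSc (inv_mem hc)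
    obtain ⟨n, hn⟩ := hrep o ho
    have hc' : c = (((e ^ n)⁻¹ * o) * t)⁻¹ * (e ^ n)⁻¹ := by
      rw [← inv_inv c, hot]; group
    have hed' : Commute ((e ^ n)⁻¹) d := (hed.pow_left n).inv_left
    rw [hc', show (((e ^ n)⁻¹ * o) * t)⁻¹ * (e ^ n)⁻¹ * d * ((((e ^ n)⁻¹ * o) * t)⁻¹ * (e ^ n)⁻¹)⁻¹ =
      (((e ^ n)⁻¹ * o) * t)⁻¹ * ((e ^ n)⁻¹ * d * ((e ^ n)⁻¹)⁻¹) * ((((e ^ n)⁻¹ * o) * t)⁻¹)⁻¹ by group,
      hed'.eq, mul_inv_cancel_right]
    exact conj_mem_coreK (inv_mem (mul_mem hn (hSK ht))) hd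
  have hEle : E ≤ coreK K := fun x hx => by simpa using hx 1 (one_mem _)
  have hEn : cI a ≤ normalizer (E : Set G) := fun c hc =>
    mem_normalizer_iff_of_finite fun x hx c' hc' => by
      rw [show c' * (c * x * c⁻¹) * c'⁻¹ = (c' * c) * x * (c' * c)⁻¹ by group]
      exact hx _ (mul_mem hc' hc)
  have hEbot : E ≠ ⊥ := fun e' => hd1 (mem_bot.1 (e' ▸ hdE))
  have hEtop : E ≠ ⊤ := fun e' => h.min.cI_ne_top (invol_ne_one h.ha)
    (top_le_iff.1 (e' ▸ hEle.trans h.coreK_le_a))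
  have hN : normalizer (E : Set G) = cI a := ((h.ctx.max a h.ha).le_iff.1 hEn).resolve_left
    (h.min.normalizer_ne_top hEbot hEtop)
  obtain ⟨u, -, hux, -, -, hconj⟩ := h.exists_u
  refine hconj (hN ▸ mem_normalizer_iff_of_finite fun x hx => ?_)
  rw [(conj_commute_coreK h.coreK_le_a (h.mem_nX_of_commute hux.symm)
    (hEle hx)).eq, mul_inv_cancel_right]
  exact hx

end Sm

end CfsgLib.GW.Small
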