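import Cfsg.Agent.Lib.GW.Component.Cases
import Cfsg.Agent.Lib.GW.Component.Alpha.Count

/-!
A small kill: an element of order `p` fixed by `b`, central modulo the central elements of order
`p`, spanning with them a plane normalised by `C(a)`.  The normalizer of the line it spans.
-/

set_option autoImplicit false
set_option linter.unusedSectionVars false
set_option linter.style.haveILetI false

namespace CfsgLib.GW.Small

open Subgroup CfsgLib.Invol CfsgLib.BlockA.DihedralBlock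
open CfsgLib.GW.Alpha

universe u

variable {G : Type u} [Group G] [Finite G]

/-- The normalizer of the line. -/
abbrev nX (x₀ : G) : Subgroup G := normalizer (zpowers x₀ : Set G)

/-- The configuration to refute. -/
structure Sm (a b g z x₀ : G) (p : ℕ) : Prop where
  ctx : Ctx G
  mixed : Mixed a b g p
  zord : orderOf z = p
  zgen : zP a p = zpowers z
  hx : x₀ ∈ eP a p
  hxb : x₀ ∈ cI b
  hxz : x₀ ∉ zP a p
  hA : ∀ x ∈ cI a, x * x₀ * x⁻¹ ∈ zP a p ⊔ zpowers x₀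

namespace Sm

variable {a b g z x₀ : G} {p : ℕ} (h : Sm a b g z x₀ p)
include h

theorem fact : Fact p.Prime := ⟨h.mixed.hp⟩

theorem min : Min G := h.ctx.min

theorem ha : orderOf a = 2 := h.mixed.four.ha

theorem hb : orderOf b = 2 := h.mixed.four.hb

theorem comm : a * b = b * a := h.mixed.four.comm

theorem hne : b ≠ a := Ne.symm h.mixed.four.hab

theorem z_mem : z ∈ zP a p := h.zgen.symm ▸ mem_zpowers z

theorem z_ne : z ≠ 1 := fun e => h.mixed.hp.ne_one (by rw [← h.zord, e, orderOf_one])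

theorem z_mem_cI : z ∈ cI a := coreC_le_cI a (zP_le_coreC a p h.z_mem)

theorem x_ne : x₀ ≠ 1 := fun e => h.hxz (e ▸ one_mem _)

theorem x_mem_fitP : x₀ ∈ fitP a p := eP_le_fitP a p h.hx

theorem x_mem_coreC : x₀ ∈ coreC a := fitP_le_coreC a p h.x_mem_fitP

theorem x_ord : orderOf x₀ = p := by
  haveI := h.fact
  exact orderOf_eq_prime (pow_eq_one_of_eP h.hx) h.x_ne

theorem zP_comm_x {v : G} (hv : v ∈ zP a p) : Commute v x₀ := hv.2.1 x₀ h.x_mem_fitP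

theorem xpow_commute_zP {v w : G} (hv : v ∈ zP a p) (hw : w ∈ zpowers x₀) : Commute v w := by
  obtain ⟨i, rfl⟩ := hw
  exact (h.zP_comm_x hv).zpow_right i

/-- A nontrivial element of the line generates it. -/
theorem x_gen {w : G} (hw : w ∈ zpowers x₀) (hw1 : w ≠ 1) : zpowers w = zpowers x₀ := by
  haveI := h.fact
  refine eq_of_le_of_card_ge (zpowers_le.2 hw) ?_
  rw [Nat.card_zpowers, Nat.card_zpowers, h.x_ord]
  rcases (Nat.dvd_prime h.mixed.hp).1 (h.x_ord ▸ orderOf_dvd_of_mem_zpowers hw) with e | e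
  · exact absurd (orderOf_eq_one_iff.1 e) hw1
  · rw [e]

theorem zP_inf_x {v : G} (hv : v ∈ zP a p) (hvx : v ∈ zpowers x₀) : v = 1 := by
  by_contra hv1
  refine h.hxz ?_
  exact zpowers_le.2 hv (h.x_gen hvx hv1 ▸ mem_zpowers x₀ : x₀ ∈ zpowers v)

theorem fixed_zP {v : G} (hv : v ∈ zP a p) (hvb : v ∈ cI b) : v = 1 :=
  mem_bot.1 ((h.ctx.alpha a b g p h.mixed).le ⟨hv, hvb⟩)

theorem b_mem_cI : b ∈ cI a := mem_cI.2 h.comm.symm

/-- The plane. -/
def plane : Subgroup G where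
  carrier := {x | ∃ v ∈ zP a p, ∃ w ∈ zpowers x₀, x = v * w}
  one_mem' := ⟨1, one_mem _, 1, one_mem _, (one_mul 1).symm⟩
  mul_mem' := fun {x y} ⟨v, hv, w, hw, hx⟩ ⟨v', hv', w', hw', hy⟩ =>
    ⟨v * v', mul_mem hv hv', w * w', mul_mem hw hw', by
      rw [hx, hy, show v * w * (v' * w') = v * (w * v') * w' by group,
        ← (h.xpow_commute_zP hv' hw).eq]
      group⟩
  inv_mem' := fun {x} ⟨v, hv, w, hw, hx⟩ => ⟨v⁻¹, inv_mem hv, w⁻¹, inv_mem hw, by
    rw [hx, (h.xpow_commute_zP hv hw).eq, mul_inv_rev]⟩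

theorem mem_plane {x : G} : x ∈ h.plane ↔ ∃ v ∈ zP a p, ∃ w ∈ zpowers x₀, x = v * w := Iff.rfl

theorem zP_le_plane : zP a p ≤ h.plane := fun v hv => ⟨v, hv, 1, one_mem _, (mul_one v).symm⟩

theorem x_le_plane : zpowers x₀ ≤ h.plane := fun w hw => ⟨1, one_mem _, w, hw, (one_mul w).symm⟩

theorem sup_le_plane : zP a p ⊔ zpowers x₀ ≤ h.plane := sup_le h.zP_le_plane h.x_le_plane

theorem plane_le_coreC : h.plane ≤ coreC a := by
  rintro _ ⟨v, hv, w, hw, rfl⟩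
  exact mul_mem (zP_le_coreC a p hv) (zpowers_le.2 h.x_mem_coreC hw)

theorem conj_plane {c x : G} (hc : c ∈ cI a) (hx : x ∈ h.plane) : c * x * c⁻¹ ∈ h.plane := by
  obtain ⟨v, hv, w, ⟨i, rfl⟩, rfl⟩ := hx
  rw [show c * (v * x₀ ^ i) * c⁻¹ = (c * v * c⁻¹) * (c * x₀ ^ i * c⁻¹) by group, ← conj_zpow]
  exact mul_mem (h.zP_le_plane (conj_mem_zP hc hv)) (zpow_mem (h.sup_le_plane (h.hA c hc)) i)

/-- The points of the plane fixed by `b` lie on the line. -/
theorem fixed_mem {x : G} (hx : x ∈ h.plane) (hxb : x ∈ cI b) : x ∈ zpowers x₀ := by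
  obtain ⟨v, hv, w, hw, rfl⟩ := hx
  have hvb : v ∈ cI b := by
    have := mul_mem hxb (inv_mem (zpowers_le.2 h.hxb hw))
    rwa [mul_inv_cancel_right] at this
  rw [h.fixed_zP hv hvb, one_mul]
  exact hw

theorem plane_ne_bot : h.plane ≠ ⊥ := fun e =>
  h.x_ne (mem_bot.1 (e ▸ h.x_le_plane (mem_zpowers x₀)))

theorem plane_ne_top : h.plane ≠ ⊤ := fun e =>
  h.min.cI_ne_top (invol_ne_one h.ha) (top_le_iff.1 (e ▸ h.plane_le_coreC.trans (coreC_le_cI a)))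

theorem normalizer_plane : normalizer (h.plane : Set G) = cI a :=
  ((h.ctx.max a h.ha).le_iff.1 fun _ hc => mem_normalizer_iff_of_finite fun _ hx =>
    h.conj_plane hc hx).resolve_left (h.min.normalizer_ne_top h.plane_ne_bot h.plane_ne_top)

theorem nX_ne_top : nX x₀ ≠ ⊤ :=
  h.min.normalizer_ne_top (fun e => h.x_ne (zpowers_eq_bot.1 e)) fun e =>
    h.min.cI_ne_top (invol_ne_one h.ha) (top_le_iff.1 (e ▸ zpowers_le.2
      (coreC_le_cI a h.x_mem_coreC)))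

theorem mem_nX_of_conj {c : G} (hc : c * x₀ * c⁻¹ ∈ zpowers x₀) : c ∈ nX x₀ :=
  mem_normalizer_iff_of_finite fun w hw => by
    obtain ⟨i, rfl⟩ := hw
    rw [← conj_zpow]
    exact zpow_mem hc i

theorem mem_nX_of_commute {c : G} (hc : Commute c x₀) : c ∈ nX x₀ :=
  h.mem_nX_of_conj (by rw [hc.eq, mul_inv_cancel_right]; exact mem_zpowers x₀)

theorem mem_of_conj_mem {o w : G} (hw : w ∈ zpowers x₀) (hw1 : w ≠ 1)
    (hc : o * w * o⁻¹ ∈ zpowers x₀) : o ∈ nX x₀ := by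
  refine mem_normalizer_iff_of_finite fun u hu => ?_
  rw [← h.x_gen hw hw1] at hu
  obtain ⟨i, rfl⟩ := hu
  rw [← conj_zpow]
  exact zpow_mem hc i

theorem a_mem : a ∈ nX x₀ :=
  h.mem_nX_of_commute (mem_cI.1 (coreC_le_cI a h.x_mem_coreC)).symm

theorem b_mem : b ∈ nX x₀ := h.mem_nX_of_commute (mem_cI.1 h.hxb).symm

theorem zP_le_nX : zP a p ≤ nX x₀ := fun _ hv => h.mem_nX_of_commute (h.zP_comm_x hv)

theorem inf_cI_le : cI a ⊓ cI b ≤ nX x₀ := fun _ hc => h.mem_nX_of_conj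
  (h.fixed_mem (h.conj_plane hc.1 (h.x_le_plane (mem_zpowers x₀)))
    ((cI b).mul_mem ((cI b).mul_mem hc.2 h.hxb) ((cI b).inv_mem hc.2)))

theorem mem_b_of_ab {x : G} (hxa : x ∈ cI a) (hx : x ∈ cI (a * b)) : x ∈ cI b := by
  have h1 : Commute x (a⁻¹ * (a * b)) :=
    (Commute.inv_right (mem_cI.1 hxa : Commute x a)).mul_right (mem_cI.1 hx)
  rw [inv_mul_cancel_left] at h1
  exact mem_cI.2 h1.eq

theorem coreK_le_a : coreK (nX x₀) ≤ cI a := by
  haveI := h.fact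
  have hb' : Nat.card (fitC b) = Nat.card (fitC a) := by rw [← h.mixed.four.ga, card_fitC_conj]
  exact coreK_le_cI h.min h.ha (h.ctx.max a h.ha) h.hb h.comm h.hne hb'
    (by rw [← h.mixed.four.gb, card_fitC_conj, hb']) (fun e => h.x_ne (zpowers_eq_bot.1 e))
    (zpowers_le.2 (fitP_le_fitC a p h.x_mem_fitP)) h.a_mem h.b_mem
    (fun x hx => h.inf_cI_le ⟨hx.2, fitC_le_cI b hx.1⟩)
    (fun x hx => h.inf_cI_le ⟨hx.2, h.mem_b_of_ab hx.2 (fitC_le_cI _ hx.1)⟩)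

/-- An element of `O_p(O(C(b)))` centralising the line and inverted by `a`. -/
theorem exists_u : ∃ u ∈ fitP b p, Commute x₀ u ∧ a * u * a⁻¹ = u⁻¹ ∧ u ≠ 1 ∧
    u * a * u⁻¹ ∉ cI a := by
  haveI := h.fact
  have hxc : zpowers x₀ ≤ cI a := zpowers_le.2 (coreC_le_cI a h.x_mem_coreC)
  have haN : a ∈ normalizer (fitP b p : Set G) := cI_le_normalizer_fitP b p (mem_cI.2 h.comm)
  have hcop : (orderOf a).Coprime p := by
    rw [h.ha]; exact (Nat.coprime_primes Nat.prime_two h.mixed.hp).2 h.mixed.ne_two.symm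
  obtain ⟨u, huP, huQ, hua⟩ : ∃ u ∈ fitP b p, Commute x₀ u ∧ ¬ Commute a u := by
    by_contra hcon
    push Not at hcon
    have main : ∀ u ∈ fitP b p, Commute a u := axb_subgroup (isPGroup_fitP b p)
      ((isPGroup_fitP a p).to_le (zpowers_le.2 h.x_mem_fitP))
      ((zpowers_le.2 h.hxb).trans (cI_le_normalizer_fitP b p)) haN hcop
      (fun x hx => mem_cI.1 (hxc hx)) fun u hu hc => hcon u hu (hc x₀ (mem_zpowers x₀))
    refine h.mixed.moves fun u hu => ?_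
    have hu' : g * u * g⁻¹ ∈ fitP b p := by
      rw [← h.mixed.four.ga, ← fitP_conj]; exact ⟨u, hu, rfl⟩
    have h1 : Commute (g⁻¹ * a * g) u := by
      have := (main _ hu').map (MulAut.conj g⁻¹).toMonoidHom
      simpa [MulAut.conj_apply, mul_assoc] using this
    have hgab : g⁻¹ * a * g = a * b := by
      calc g⁻¹ * a * g = g⁻¹ * (g * (a * b) * g⁻¹) * g := by rw [h.mixed.four.gab]
        _ = a * b := by group
    rw [hgab] at h1
    exact h.mem_b_of_ab (fitP_le_cI a p hu) (mem_cI.2 h1.eq.symm)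
  set O := fitP b p ⊓ centralizer ({x₀} : Set G)
  have hO : Odd (Nat.card O) :=
    (odd_coreC b).of_dvd_nat (card_dvd_of_le (inf_le_left.trans (fitP_le_coreC b p)))
  have hxa : Commute x₀ a := mem_cI.1 (coreC_le_cI a h.x_mem_coreC)
  obtain ⟨w, v, hw, hv, rfl, hwa, hva⟩ := exists_fixed_mul_inv hO (invol_mul_self h.ha)
    (fun x hx => mem_inf.2 ⟨(mem_normalizer_iff.1 haN x).1 hx.1, mem_centralizer_singleton_iff.2
      ((hxa.symm.mul_left (mem_centralizer_singleton_iff.1 hx.2 : Commute x x₀)).mul_left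
        hxa.symm.inv_left).eq⟩)
    (mem_inf.2 ⟨huP, mem_centralizer_singleton_iff.2 huQ.eq.symm⟩)
  have hvo : Odd (orderOf v) := odd_orderOf_mem_coreC (fitP_le_coreC b p hv.1)
  have hv1 : v ≠ 1 := fun e => hua (by rw [e, mul_one]; exact hwa)
  refine ⟨v, hv.1, (mem_centralizer_singleton_iff.1 hv.2).symm, hva, hv1, fun hm => hv1 ?_⟩
  have h2 : Commute a (v * v) := by
    have e : v * a * v⁻¹ = v * v * a := by
      have := Alpha.inv_conj hva
      calc v * a * v⁻¹ = v * (a * v⁻¹ * a⁻¹) * a := by group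
        _ = v * v * a := by rw [this]
    have hc : Commute (v * v * a) a := e ▸ mem_cI.1 hm
    have := hc.mul_left (Commute.refl a).inv_left
    rw [mul_inv_cancel_right] at this
    exact this.symm
  exact eq_one_of_fixed_inverted hvo (commute_of_mul_self hvo h2.symm).symm hva

theorem x_mem_coreK : x₀ ∈ coreK (nX x₀) := by
  refine ⟨⟨x₀, h.mem_nX_of_commute (Commute.refl x₀)⟩, CfsgLib.Solvable.le_pPrimeCore
    (normal_in_normalizer (H := zpowers x₀)) ?_ (mem_subgroupOf.2 (mem_zpowers x₀)), rfl⟩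
  rw [Nat.card_congr (subgroupOfEquivOfLe le_normalizer).toEquiv, Nat.card_zpowers]
  exact Nat.coprime_two_right.2 (odd_orderOf_mem_coreC h.x_mem_coreC)

theorem z_not_mem : z ∉ coreK (nX x₀) := fun hz => by
  obtain ⟨u, -, hux, -, -, hconj⟩ := h.exists_u
  refine hconj (h.mixed.cent_zP_le h.ctx fun v hv => conj_commute_coreK h.coreK_le_a
    (h.mem_nX_of_commute hux.symm) ?_)
  exact zpowers_le.2 hz (h.zgen ▸ hv)

theorem not_solvable : ¬ Group.IsSolvable (nX x₀) :=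
  not_solvable_of_commute h.min h.ha h.a_mem (h.zP_le_nX h.z_mem)
    (odd_orderOf_mem_coreC (zP_le_coreC a p h.z_mem)) (mem_cI.1 h.z_mem_cI) h.z_not_mem

theorem exists_conj : ∃ k ∈ nX x₀, k * a * k⁻¹ = b := by
  haveI := h.fact
  obtain ⟨u, huP, hux, hinv, hu1, -⟩ := h.exists_u
  refine conj_of_inverted h.min h.nX_ne_top h.ha h.hb h.a_mem h.b_mem h.mixed.hp h.mixed.ne_two
    (h.mem_nX_of_commute hux.symm) ?_ (mem_cI.1 (fitP_le_cI b p huP)) hinv (fun hu => hu1 ?_)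
    (h.zP_le_nX h.z_mem) ⟨1, by rw [pow_one]; exact h.z_mem.2.2⟩ (mem_cI.1 h.z_mem_cI)
    (h.mixed.b_inverts h.ctx h.z_mem) h.z_not_mem
  · obtain ⟨k, hk⟩ := isPGroup_fitP b p ⟨u, huP⟩
    exact ⟨k, congrArg Subtype.val hk⟩
  · exact eq_one_of_fixed_inverted (odd_orderOf_mem_coreC (fitP_le_coreC b p huP))
      (mem_cI.1 (h.coreK_le_a hu) : Commute u a).symm hinv

theorem coreK_le_b : coreK (nX x₀) ≤ cI b := fun x hx => by
  obtain ⟨k, hk, he⟩ := h.exists_conj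
  exact mem_cI.2 (he ▸ (conj_commute_coreK h.coreK_le_a hk hx).eq.symm)

theorem coreK_le_coreC : coreK (nX x₀) ≤ coreC a := fun x hx =>
  h.min.mem_coreC h.ha (h.coreK_le_a hx) (odd_of_mem (odd_coreK _) hx)

/-- The part of `N(⟨x₀⟩) ∩ O(C(a))` inverted by `b`. -/
def tK : Subgroup G where
  carrier := {x | x ∈ nX x₀ ⊓ coreC a ∧ b * x * b⁻¹ = x⁻¹}
  one_mem' := ⟨one_mem _, by simp⟩
  mul_mem' := fun {x y} hx hy => ⟨mul_mem hx.1 hy.1, by
    have hc := commute_inverted h.min h.nX_ne_top h.ha h.hb h.a_mem h.b_mem h.comm.symm h.hne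
      h.coreK_le_b hx.1 hy.1 hx.2 hy.2
    rw [show b * (x * y) * b⁻¹ = (b * x * b⁻¹) * (b * y * b⁻¹) by group, hx.2, hy.2,
      ← mul_inv_rev, hc.eq]⟩
  inv_mem' := fun {x} hx => ⟨inv_mem hx.1, by rw [Alpha.inv_conj hx.2, inv_inv]⟩

theorem tK_le : h.tK ≤ nX x₀ ⊓ coreC a := fun _ hx => hx.1

theorem tK_commute_coreK {x e : G} (hx : x ∈ h.tK) (he : e ∈ coreK (nX x₀)) : Commute x e :=
  commute_of_fixed (odd_orderOf_mem_coreC hx.1.2) hx.2 (mem_cI.1 (h.coreK_le_b he)).symm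
    (mem_cI.1 (h.coreK_le_b (conj_mem_coreK hx.1.1 he))).symm

theorem tK_inf_coreK : h.tK ⊓ coreK (nX x₀) = ⊥ := (eq_bot_iff_forall _).2 fun x hx =>
  eq_one_of_fixed_inverted (odd_orderOf_mem_coreC hx.1.1.2)
    (mem_cI.1 (h.coreK_le_b hx.2)).symm hx.1.2

theorem z_mem_tK : z ∈ h.tK :=
  ⟨⟨h.zP_le_nX h.z_mem, zP_le_coreC a p h.z_mem⟩, h.mixed.b_inverts h.ctx h.z_mem⟩

theorem p_dvd_tK : p ∣ Nat.card h.tK :=
  (dvd_of_eq h.zord.symm).trans (Subgroup.orderOf_dvd_natCard _ h.z_mem_tK)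

theorem p_le_tK : p ≤ Nat.card h.tK := Nat.le_of_dvd Nat.card_pos h.p_dvd_tK

theorem W_le : coreC a ⊓ cI b ≤ nX x₀ ⊓ coreC a := fun _ hx =>
  ⟨h.inf_cI_le ⟨coreC_le_cI a hx.1, hx.2⟩, hx.1⟩

theorem W_conj_tK {w t : G} (hw : w ∈ coreC a ⊓ cI b) (ht : t ∈ h.tK) : w * t * w⁻¹ ∈ h.tK := by
  refine ⟨mul_mem (mul_mem (h.W_le hw) ht.1) (inv_mem (h.W_le hw)), ?_⟩
  have e : Commute b w := (mem_cI.1 hw.2).symm
  calc b * (w * t * w⁻¹) * b⁻¹ = (b * w * b⁻¹) * (b * t * b⁻¹) * (b * w * b⁻¹)⁻¹ := by group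
    _ = (w * t * w⁻¹)⁻¹ := by rw [e.eq, mul_inv_cancel_right, ht.2]; group

theorem b_conj_coreC {x : G} (hx : x ∈ coreC a) : b * x * b⁻¹ ∈ coreC a :=
  conj_mem_coreC h.b_mem_cI hx

theorem exists_split {x : G} (hx : x ∈ nX x₀ ⊓ coreC a) :
    ∃ w ∈ coreC a ⊓ cI b, ∃ v ∈ h.tK, x = w * v := by
  obtain ⟨w, v, hw, hv, rfl, hwb, hvb⟩ := exists_fixed_mul_inv
    ((odd_coreC a).of_dvd_nat (card_dvd_of_le (inf_le_right : nX x₀ ⊓ coreC a ≤ _)))
    (invol_mul_self h.hb) (fun x hx => mem_inf.2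
      ⟨mul_mem (mul_mem h.b_mem hx.1) (inv_mem h.b_mem), h.b_conj_coreC hx.2⟩) hx
  exact ⟨w, ⟨hw.2, mem_cI.2 hwb.eq.symm⟩, v, ⟨hv, hvb⟩, rfl⟩

theorem card_inf : Nat.card (nX x₀ ⊓ coreC a : Subgroup G) =
    Nat.card h.tK * Nat.card (coreC a ⊓ cI b : Subgroup G) := by
  rw [mul_comm, ← Nat.card_prod]
  symm
  refine Nat.card_congr (Equiv.ofBijective
    (fun wv => (⟨(wv.1 : G) * wv.2, mul_mem (h.W_le wv.1.2) wv.2.2.1⟩ :
      (nX x₀ ⊓ coreC a : Subgroup G))) ⟨?_, fun x => ?_⟩)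
  · rintro ⟨w, v⟩ ⟨w', v'⟩ he
    have he' : (w : G) * v = w' * v' := congrArg Subtype.val he
    have hd : (w' : G)⁻¹ * w = v' * (v : G)⁻¹ := by
      rw [eq_mul_inv_iff_mul_eq, mul_assoc, he', inv_mul_cancel_left]
    have hm : (v' : G) * (v : G)⁻¹ ∈ h.tK := mul_mem v'.2 (inv_mem v.2)
    have hf : (v' : G) * (v : G)⁻¹ ∈ cI b := hd ▸ mul_mem (inv_mem w'.2.2) w.2.2
    have h1 : (v' : G) * (v : G)⁻¹ = 1 := eq_one_of_fixed_inverted
      (odd_orderOf_mem_coreC hm.1.2) (mem_cI.1 hf).symm hm.2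
    rw [mul_inv_eq_one] at h1
    rw [h1] at he'
    exact Prod.ext (Subtype.ext (mul_right_cancel he')) (Subtype.ext h1.symm)
  · obtain ⟨w, hw, v, hv, he⟩ := h.exists_split x.2
    exact ⟨⟨⟨w, hw⟩, ⟨v, hv⟩⟩, Subtype.ext he.symm⟩

/-- A Sylow 2-subgroup of `C(a)` through `b` normalises the line. -/
theorem sylow_le {S : Sylow 2 G} (D : DihData (S : Subgroup G)) {i : ℤ}
    (hi : dt S D i = b) (hSc : (S : Subgroup G) ≤ cI a) : (S : Subgroup G) ≤ nX x₀ := by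
  have hstep : ∀ e : ℤ, ((D.r ^ (2 * e) : (S : Subgroup G)) : G) ∈ nX x₀ →
      ((D.r ^ e : (S : Subgroup G)) : G) ∈ nX x₀ := by
    intro e he
    set τ : G := ((D.r ^ e : (S : Subgroup G)) : G)
    set c : G := ((D.r ^ (2 * e) : (S : Subgroup G)) : G)
    have hτ : τ ∈ cI a := hSc (SetLike.coe_mem _)
    have hconj : τ * b * τ⁻¹ = c * b := by
      rw [← hi]
      refine congrArg Subtype.val (?_ : D.r ^ e * (D.r ^ i * D.s) * (D.r ^ e)⁻¹ =
        D.r ^ (2 * e) * (D.r ^ i * D.s))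
      rw [D.conj_refl, ← mul_assoc, ← zpow_add, add_comm]
    set b' := τ * b * τ⁻¹ with hb'
    have hb'K : b' ∈ nX x₀ := hconj ▸ mul_mem he h.b_mem
    obtain ⟨v, hv, w, hw, hvw⟩ := h.conj_plane hτ (h.x_le_plane (mem_zpowers x₀))
    refine h.mem_nX_of_conj ?_
    have hfix : b' * (v * w) * b'⁻¹ = v * w := by
      rw [← hvw, hb', show τ * b * τ⁻¹ * (τ * x₀ * τ⁻¹) * (τ * b * τ⁻¹)⁻¹ =
        τ * (b * x₀ * b⁻¹) * τ⁻¹ by group, show b * x₀ * b⁻¹ = x₀ by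
          rw [← mem_cI.1 h.hxb, mul_inv_cancel_right]]
    have hbv : b' * v * b'⁻¹ = v⁻¹ := by
      have hv' : τ⁻¹ * v * τ ∈ zP a p := by simpa using conj_mem_zP (inv_mem hτ) hv
      calc b' * v * b'⁻¹ = τ * (b * (τ⁻¹ * v * τ) * b⁻¹) * τ⁻¹ := by rw [hb']; group
        _ = v⁻¹ := by rw [h.mixed.b_inverts h.ctx hv']; group
    have hw' : b' * w * b'⁻¹ ∈ zpowers x₀ := (mem_normalizer_iff.1 hb'K w).1 hw
    have h1 : v * v ∈ zpowers x₀ := by
      have e1 : v⁻¹ * (b' * w * b'⁻¹) = v * w := by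
        rw [← hbv, ← hfix]; group
      have e2 : v * v = (b' * w * b'⁻¹) * w⁻¹ := by
        rw [eq_mul_inv_iff_mul_eq, mul_assoc, ← e1, mul_inv_cancel_left]
      rw [e2]
      exact mul_mem hw' (inv_mem hw)
    have hv1 : v = 1 := eq_one_of_sq_of_odd (h.zP_inf_x (mul_mem hv hv) h1)
      (odd_orderOf_mem_coreC (zP_le_coreC a p hv))
    rw [hvw, hv1, one_mul]
    exact hw
  have hrot : ∀ (l : ℕ) (e : ℤ), (2 * (D.h : ℤ)) ∣ 2 ^ l * e →
      ((D.r ^ e : (S : Subgroup G)) : G) ∈ nX x₀ := by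
    intro l
    induction l with
    | zero =>
      intro e he
      rw [D.zpow_eq_one_iff.2 (by simpa using he)]
      exact one_mem _
    | succ l ih =>
      intro e he
      exact hstep e (ih (2 * e) (by rw [← mul_assoc, ← pow_succ]; exact he))
  have hr : ∀ e : ℤ, ((D.r ^ e : (S : Subgroup G)) : G) ∈ nX x₀ := fun e => by
    obtain ⟨k, hk⟩ := D.h_pow
    exact hrot (k + 1) e (Dvd.dvd.mul_right (by rw [hk]; push_cast; rw [pow_succ, mul_comm]) e)
  intro s hs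
  rcases D.cases ⟨s, hs⟩ with ⟨e, he⟩ | ⟨e, he⟩
  · have hse : s = ((D.r ^ e : (S : Subgroup G)) : G) := congrArg Subtype.val he
    rw [hse]
    exact hr e
  · have he' : s = ((D.r ^ (e - i) : (S : Subgroup G)) : G) * dt S D i := by
      refine (congrArg Subtype.val he : s = _).trans (congrArg Subtype.val
        (?_ : D.r ^ e * D.s = D.r ^ (e - i) * (D.r ^ i * D.s)))
      rw [← mul_assoc, ← zpow_add, sub_add_cancel]
    rw [he', hi]
    exact mul_mem (hr _) h.b_mem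

theorem not_coreC_le : ¬ coreC a ≤ nX x₀ := fun hle => by
  obtain ⟨S, D, i, -, hi, hSc⟩ := exists_data h.min h.ha h.hb h.b_mem_cI h.hne
  have hall : cI a ≤ nX x₀ := fun x hx => by
    obtain ⟨o, ho, s, hs, rfl⟩ := exists_mul_sylow h.min h.ha hSc hx
    exact mul_mem (hle ho) (h.sylow_le D hi hSc hs)
  obtain ⟨u, -, hux, -, -, hconj⟩ := h.exists_u
  have hu : u ∈ cI a :=
    ((h.ctx.max a h.ha).le_iff.1 hall).resolve_left h.nX_ne_top ▸ h.mem_nX_of_commute hux.symm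
  exact hconj ((cI a).mul_mem ((cI a).mul_mem hu (self_mem_cI a)) ((cI a).inv_mem hu))

end Sm

end CfsgLib.GW.Small
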